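import Groth.Agent.Lib.GrpQuot20.Cover
import Groth.Agent.Lib.GeomRed21.Prod
import Groth.Agent.Lib.PerfProd19.Basic

/-!
# Geometrically reduced schemes over a field, without finiteness hypotheses
-/

set_option autoImplicit false

universe u

open CategoryTheory CategoryTheory.Limits AlgebraicGeometry MonoidalCategory

namespace Groth.Agent.GrpGen20

variable {k : Type u} [Field k]

theorem isReduced_of_geomReduced {X : Scheme.{u}} (f : X ⟶ Spec (CommRingCat.of k)) [GeometricallyReduced f] :
    IsReduced X := by
  let K := AlgebraicClosure k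
  let y : Spec (CommRingCat.of K) ⟶ Spec (CommRingCat.of k) := Spec.map (CommRingCat.ofHom (algebraMap k K))
  haveI : IsReduced (pullback f y) := GeometricallyReduced.geometrically_isReduced _ _ _ (IsPullback.of_hasPullback f y)
  haveI : Flat y := inferInstance
  haveI : Surjective y := ⟨fun p => ⟨IsLocalRing.closedPoint K, Subsingleton.elim (α := PrimeSpectrum k) _ _⟩⟩
  haveI : Flat (pullback.fst f y) := MorphismProperty.pullback_fst _ _ ‹_›
  haveI : Surjective (pullback.fst f y) := MorphismProperty.pullback_fst _ _ ‹_›
  haveI : Flat (𝟙 (pullback f y) ≫ pullback.fst f y) := by rw [Category.id_comp]; infer_instance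
  haveI : Surjective (𝟙 (pullback f y) ≫ pullback.fst f y) := by rw [Category.id_comp]; infer_instance
  exact GrpQuot20.isReduced_of_cover_factor (pullback.fst f y) (𝟙 _)

theorem geometricallyReduced_prod {A B : Scheme.{u}} (a : A ⟶ Spec (CommRingCat.of k))
    (b : B ⟶ Spec (CommRingCat.of k)) [GeometricallyReduced a] [GeometricallyReduced b] :
    GeometricallyReduced (pullback.fst a b ≫ a) := by
  refine ⟨fun K _ y W fst snd hpb => ?_⟩
  suffices IsReduced (pullback (pullback.fst a b ≫ a) y) from isReduced_of_isOpenImmersion hpb.isoPullback.hom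
  let L := AlgebraicClosure K
  let c : Spec (CommRingCat.of L) ⟶ Spec (CommRingCat.of K) := Spec.map (CommRingCat.ofHom (algebraMap K L))
  haveI : IsReduced (pullback a (c ≫ y)) :=
    GeometricallyReduced.geometrically_isReduced _ _ _ (IsPullback.of_hasPullback a (c ≫ y))
  haveI : IsReduced (pullback b (c ≫ y)) :=
    GeometricallyReduced.geometrically_isReduced _ _ _ (IsPullback.of_hasPullback b (c ≫ y))
  haveI := PerfProd19.isReduced_pullback (pullback.snd a (c ≫ y)) (pullback.snd b (c ≫ y))
  let e : pullback (pullback.fst a b ≫ a) (c ≫ y) ≅ pullback (pullback.snd a (c ≫ y)) (pullback.snd b (c ≫ y)) :=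
    pullback.congrHom pullback.condition rfl ≪≫ pullbackAssoc a b b (c ≫ y) ≪≫
      pullback.congrHom rfl pullback.condition ≪≫
      (pullbackLeftPullbackSndIso a (c ≫ y) (pullback.snd b (c ≫ y))).symm
  haveI : IsReduced (pullback (pullback.fst a b ≫ a) (c ≫ y)) := isReduced_of_isOpenImmersion e.hom
  haveI : IsReduced (pullback (pullback.snd (pullback.fst a b ≫ a) y) c) :=
    isReduced_of_isOpenImmersion (pullbackLeftPullbackSndIso (pullback.fst a b ≫ a) y c).hom
  haveI : Surjective c := ⟨fun p => ⟨IsLocalRing.closedPoint L, Subsingleton.elim (α := PrimeSpectrum K) _ _⟩⟩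
  let π := pullback.fst (pullback.snd (pullback.fst a b ≫ a) y) c
  haveI : Flat π := MorphismProperty.pullback_fst _ _ inferInstance
  haveI : Surjective π := MorphismProperty.pullback_fst _ _ ‹_›
  haveI : Flat (𝟙 _ ≫ π) := by rw [Category.id_comp]; infer_instance
  haveI : Surjective (𝟙 _ ≫ π) := by rw [Category.id_comp]; infer_instance
  exact GrpQuot20.isReduced_of_cover_factor π (𝟙 _)

theorem geometricallyReduced_tensorObj (A B : Over (Spec (CommRingCat.of k))) [GeometricallyReduced A.hom]
    [GeometricallyReduced B.hom] : GeometricallyReduced (A ⊗ B).hom :=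
  geometricallyReduced_prod A.hom B.hom

theorem geometricallyReduced_unit : GeometricallyReduced (𝟙_ (Over (Spec (CommRingCat.of k)))).hom := by
  haveI : IsReduced (𝟙_ (Over (Spec (CommRingCat.of k)))).left :=
    inferInstanceAs (IsReduced (Spec (CommRingCat.of k)))
  exact GeomRed21.geometricallyReduced_of_dense _ (fun w => subset_closure (show GeomRed21.GRPt (𝟙 _) w from
    GeomRed21.gRPt_specField k (f := 𝟙 _) (𝟙 _) (by rw [Category.comp_id]; exact (Spec.map_id _).symm) w))

end Groth.Agent.GrpGen20
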