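import Groth.Agent.Lib.GrpTrans20.Subschemes
import Groth.Agent.Lib.DiagGL.Chars
import Groth.Agent.Lib.AbRigid.GrpTop
import Groth.Agent.Lib.GrpQuot20.OverQuot
import Groth.Agent.Lib.GrpFin20.Basic

/-!
# The subgroup generated by a morphism commutes with base change
-/

set_option autoImplicit false
set_option backward.isDefEq.respectTransparency.types false

universe u

open CategoryTheory CategoryTheory.Limits MonoidalCategory CartesianMonoidalCategory MonObj GrpObj AlgebraicGeometry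

noncomputable section

namespace Groth.Agent.GrpGen20

variable {k : Type u} [Field k] {G X Γ : Over (Spec (CommRingCat.of k))} [GrpObj G] [GrpObj Γ]

/-- The pairs of points lying in `y`. -/
def PairMem {Z Sk : Over (Spec (CommRingCat.of k))} (y : Z ⟶ Γ ⊗ Sk) {T : Over (Spec (CommRingCat.of k))}
    (a : T ⟶ Γ) (s : T ⟶ Sk) : Prop :=
  ∃ z : T ⟶ Z, z ≫ y = lift a s

/-- The points of `y` form subgroups containing the points of `f'`. -/
structure GenClosed {Z Sk : Over (Spec (CommRingCat.of k))} (y : Z ⟶ Γ ⊗ Sk) (f' : X ⟶ Γ) : Prop where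
  one : ∀ {T : Over (Spec (CommRingCat.of k))} (s : T ⟶ Sk), PairMem y 1 s
  mul : ∀ {T : Over (Spec (CommRingCat.of k))} {a b : T ⟶ Γ} (s : T ⟶ Sk),
    PairMem y a s → PairMem y b s → PairMem y (a * b) s
  inv : ∀ {T : Over (Spec (CommRingCat.of k))} {a : T ⟶ Γ} (s : T ⟶ Sk), PairMem y a s → PairMem y a⁻¹ s
  base : ∀ {T : Over (Spec (CommRingCat.of k))} (x : T ⟶ X) (s : T ⟶ Sk), PairMem y (x ≫ f') s

theorem GenClosed.pullback {Z Sk Sk' : Over (Spec (CommRingCat.of k))} {y : Z ⟶ Γ ⊗ Sk} {f' : X ⟶ Γ}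
    (h : GenClosed y f') (b : Sk' ⟶ Sk) : GenClosed (Limits.pullback.snd y (Γ ◁ b)) f' := by
  have hiff : ∀ {T : Over (Spec (CommRingCat.of k))} (a : T ⟶ Γ) (s : T ⟶ Sk'),
      PairMem (Limits.pullback.snd y (Γ ◁ b)) a s ↔ PairMem y a (s ≫ b) := by
    intro T a s
    constructor
    · rintro ⟨z, hz⟩
      exact ⟨z ≫ Limits.pullback.fst _ _, by
        rw [Category.assoc, Limits.pullback.condition, ← Category.assoc, hz, lift_whiskerLeft]⟩
    · rintro ⟨z, hz⟩
      exact ⟨Limits.pullback.lift z (lift a s) (by rw [hz, lift_whiskerLeft]), Limits.pullback.lift_snd _ _ _⟩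
  exact ⟨fun s => (hiff _ _).2 (h.one _), fun s h1 h2 => (hiff _ _).2 (h.mul _ ((hiff _ _).1 h1) ((hiff _ _).1 h2)),
    fun s h1 => (hiff _ _).2 (h.inv _ ((hiff _ _).1 h1)), fun x s => (hiff _ _).2 (h.base x _)⟩

variable (f' : X ⟶ Γ)
  (hgen : ∀ (C : Over (Spec (CommRingCat.of k))) (_ : GrpObj C) (c : C ⟶ Γ), IsMonHom c → IsClosedImmersion c.left →
    (∃ f'' : X ⟶ C, f'' ≫ c = f') → ∀ (T : Over (Spec (CommRingCat.of k))) (g : T ⟶ Γ), ∃ z, z ≫ c = g)

include hgen in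
theorem pairMem_of_closed {Z Sk : Over (Spec (CommRingCat.of k))} (y : Z ⟶ Γ ⊗ Sk) [IsClosedImmersion y.left]
    (h : GenClosed y f') {T : Over (Spec (CommRingCat.of k))} (a : T ⟶ Γ) (s : T ⟶ Sk) : PairMem y a s := by
  obtain ⟨C, c, hc, hiff⟩ := GrpTrans20.exists_factor (𝟙 (Γ ⊗ Sk)) y
  haveI : Mono c := Over.mono_of_mono_left c
  have hiff' : ∀ (S' : Over (Spec (CommRingCat.of k))) (g : S' ⟶ Γ), (∃ z : S' ⟶ C, z ≫ c = g) ↔
      ∀ (S'' : Over (Spec (CommRingCat.of k))) (r : S'' ⟶ S') (x : S'' ⟶ Sk), PairMem y (r ≫ g) x :=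
    fun S' g => (hiff S' g).trans (forall_congr' fun S'' => forall_congr' fun r => forall_congr' fun x =>
      ⟨fun ⟨z, hz⟩ => ⟨z, by rw [← hz, Category.comp_id]⟩, fun ⟨z, hz⟩ => ⟨z, by rw [hz, Category.comp_id]⟩⟩)
  obtain ⟨e, he⟩ := (hiff' (𝟙_ _) 1).2 fun S'' r x => by rw [MonObj.comp_one]; exact h.one x
  obtain ⟨m, hm⟩ := (hiff' _ ((fst C C ≫ c) * (snd C C ≫ c))).2 fun S'' r x => by
    rw [MonObj.comp_mul]
    exact h.mul x ((hiff' _ (fst C C ≫ c)).1 ⟨_, rfl⟩ S'' r x) ((hiff' _ (snd C C ≫ c)).1 ⟨_, rfl⟩ S'' r x)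
  obtain ⟨v, hv⟩ := (hiff' _ c⁻¹).2 fun S'' r x => by
    rw [GrpObj.comp_inv]
    exact h.inv x ((hiff' _ c).1 ⟨𝟙 _, Category.id_comp _⟩ S'' r x)
  have he' : e ≫ c = η[Γ] := by rw [he, Hom.one_def, toUnit_unique (toUnit _) (𝟙 _), Category.id_comp]
  have hm' : m ≫ c = (c ⊗ₘ c) ≫ μ[Γ] := by rw [hm, Hom.mul_def, lift_fst_comp_snd_comp]
  have hv' : v ≫ c = c ≫ ι[Γ] := by rw [hv]; rfl
  letI := AbRigid.grpObjOfMono c e he' m hm' v hv'
  have hbase := (hiff' X f').2 fun S'' r x => h.base r x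
  obtain ⟨z, hz⟩ := hgen C inferInstance c ⟨he', hm'⟩ hc hbase T a
  simpa using (hiff' T a).1 ⟨z, hz⟩ T (𝟙 T) s

theorem range_eq_univ_of_pairMem {Z Sk : Over (Spec (CommRingCat.of k))} (y : Z ⟶ Γ ⊗ Sk)
    (h : PairMem y (fst Γ Sk) (snd Γ Sk)) : Set.range y.left = Set.univ := by
  obtain ⟨z, hz⟩ := h
  rw [lift_fst_snd] at hz
  exact Set.eq_univ_of_forall fun p => ⟨z.left p, by rw [← AbRigid.left_comp_apply, hz]; rfl⟩

variable (i : Γ ⟶ G) [IsMonHom i] {S : Scheme.{u}} (σ : S ⟶ Spec (CommRingCat.of k))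

omit [GrpObj G] [GrpObj Γ] in
/-- A point of the product as a point of the base change. -/
def toBC {T : Over (Spec (CommRingCat.of k))} (a : T ⟶ Γ) (s : T ⟶ Over.mk σ) :
    Over.mk s.left ⟶ Red.bc σ Γ :=
  Over.homMk (lift a s).left (congrArg CommaMorphism.left (lift_snd a s))

omit [GrpObj G] [GrpObj Γ] in
theorem fl_toBC {T : Over (Spec (CommRingCat.of k))} (a : T ⟶ Γ) (s : T ⟶ Over.mk σ) :
    DiagGL.fl σ Γ (toBC σ a s) =
      (Over.homMk (𝟙 T.left) (by simpa using (Over.w s).symm) : (Over.map σ).obj (Over.mk s.left) ⟶ T) ≫ a := by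
  ext
  simp only [DiagGL.fl, Adjunction.homEquiv_counit, Over.comp_left, Over.homMk_left, Category.id_comp]
  simp only [Over.mapPullbackAdj_counit_app, Over.homMk_left]
  exact congrArg CommaMorphism.left (lift_fst a s)

theorem toBC_mul {T : Over (Spec (CommRingCat.of k))} (a b : T ⟶ Γ) (s : T ⟶ Over.mk σ) :
    toBC σ (a * b) s = toBC σ a s * toBC σ b s :=
  DiagGL.fl_injective σ Γ (by rw [DiagGL.fl_mul, fl_toBC, fl_toBC, fl_toBC, MonObj.comp_mul])

theorem toBC_one {T : Over (Spec (CommRingCat.of k))} (s : T ⟶ Over.mk σ) :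
    toBC σ (1 : T ⟶ Γ) s = 1 := by
  have h := toBC_mul σ (1 : T ⟶ Γ) 1 s
  rw [_root_.one_mul] at h
  exact left_eq_mul.1 h

theorem toBC_inv {T : Over (Spec (CommRingCat.of k))} (a : T ⟶ Γ) (s : T ⟶ Over.mk σ) :
    toBC σ a⁻¹ s = (toBC σ a s)⁻¹ := by
  refine eq_inv_of_mul_eq_one_left ?_
  rw [← toBC_mul, inv_mul_cancel, toBC_one]

omit [GrpObj G] [GrpObj Γ] [IsMonHom i] in
theorem toBC_comp_map {Γ₂ : Over (Spec (CommRingCat.of k))} (g : Γ ⟶ Γ₂) {T : Over (Spec (CommRingCat.of k))}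
    (a : T ⟶ Γ) (s : T ⟶ Over.mk σ) : toBC σ a s ≫ (Over.pullback σ).map g = toBC σ (a ≫ g) s := by
  ext
  show (lift a s).left ≫ ((Over.pullback σ).map g).left = (lift (a ≫ g) s).left
  apply Limits.pullback.hom_ext
  · simp only [Over.pullback_map_left, Category.assoc, Limits.pullback.lift_fst]
    rw [← Category.assoc, show (lift a s).left ≫ Limits.pullback.fst Γ.hom σ = a.left from congrArg CommaMorphism.left (lift_fst a s)]
    exact (congrArg CommaMorphism.left (lift_fst (a ≫ g) s)).symm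
  · simp only [Over.pullback_map_left, Category.assoc, Limits.pullback.lift_snd]
    rw [show (lift a s).left ≫ Limits.pullback.snd Γ.hom σ = s.left from congrArg CommaMorphism.left (lift_snd a s)]
    exact (congrArg CommaMorphism.left (lift_snd (a ≫ g) s)).symm

include hgen in
theorem exists_factor_bc (Γ' : Over S) [GrpObj Γ'] (i' : Γ' ⟶ Red.bc σ G) [IsMonHom i'] [IsImmersion i'.left]
    (hf : ∃ f'' : Red.bc σ X ⟶ Γ', f'' ≫ i' = (Over.pullback σ).map (f' ≫ i)) :
    ∃ j : Red.bc σ Γ ⟶ Γ', j ≫ i' = (Over.pullback σ).map i := by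
  haveI : Mono i' := Over.mono_of_mono_left i'
  let bi : Red.bc σ Γ ⟶ Red.bc σ G := (Over.pullback σ).map i
  haveI : IsMonHom bi := inferInstanceAs (IsMonHom ((Over.pullback σ).map i))
  let q : Limits.pullback i' bi ⟶ Red.bc σ Γ := Limits.pullback.snd i' bi
  have hqimm : IsImmersion q.left :=
    MorphismProperty.of_isPullback (P := @IsImmersion) ((IsPullback.of_hasPullback i' bi).map (Over.forget S)) ‹IsImmersion i'.left›
  haveI : Mono q := inferInstanceAs (Mono (Limits.pullback.snd i' bi))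
  have hQ : ∀ {T : Over S} (w : T ⟶ Red.bc σ Γ), (∃ z, z ≫ q = w) ↔ ∃ z : T ⟶ Γ', z ≫ i' = w ≫ bi := fun w =>
    ⟨fun ⟨z, hz⟩ => ⟨z ≫ Limits.pullback.fst _ _, by rw [Category.assoc, Limits.pullback.condition, ← Category.assoc, hz]⟩,
      fun ⟨z, hz⟩ => ⟨Limits.pullback.lift z w hz, Limits.pullback.lift_snd _ _ _⟩⟩
  let Sk : Over (Spec (CommRingCat.of k)) := Over.mk σ
  let ql : (Limits.pullback i' bi).left ⟶ (Γ ⊗ Sk).left := q.left
  let Z : Over (Spec (CommRingCat.of k)) := Over.mk (ql ≫ (Γ ⊗ Sk).hom)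
  let y : Z ⟶ Γ ⊗ Sk := Over.homMk ql rfl
  have hmem : ∀ {T : Over (Spec (CommRingCat.of k))} (a : T ⟶ Γ) (s : T ⟶ Sk),
      PairMem y a s ↔ ∃ z : Over.mk s.left ⟶ Γ', z ≫ i' = toBC σ a s ≫ bi := by
    intro T a s
    rw [← hQ]
    constructor
    · rintro ⟨z, hz⟩
      have hz' : z.left ≫ ql = (lift a s).left := congrArg CommaMorphism.left hz
      refine ⟨Over.homMk z.left ?_, Over.OverMorphism.ext hz'⟩
      rw [← Over.w q]
      show z.left ≫ ql ≫ _ = s.left
      rw [← Category.assoc, hz']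
      exact congrArg CommaMorphism.left (lift_snd a s)
    · rintro ⟨z, hz⟩
      have hz' : z.left ≫ ql = (lift a s).left := congrArg CommaMorphism.left hz
      refine ⟨Over.homMk z.left ?_, Over.OverMorphism.ext hz'⟩
      show z.left ≫ ql ≫ (Γ ⊗ Sk).hom = T.hom
      rw [← Category.assoc, hz', Over.w (lift a s)]
  have hclosed : GenClosed y f' := by
    refine ⟨fun s => (hmem _ _).2 ⟨1, ?_⟩, fun s h1 h2 => (hmem _ _).2 ?_, fun s h1 => (hmem _ _).2 ?_,
      fun x s => (hmem _ _).2 ?_⟩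
    · rw [toBC_one, MonObj.one_comp, MonObj.one_comp]
    · obtain ⟨z₁, hz₁⟩ := (hmem _ _).1 h1
      obtain ⟨z₂, hz₂⟩ := (hmem _ _).1 h2
      exact ⟨z₁ * z₂, by rw [toBC_mul, MonObj.mul_comp, MonObj.mul_comp, hz₁, hz₂]⟩
    · obtain ⟨z, hz⟩ := (hmem _ _).1 h1
      exact ⟨z⁻¹, by rw [toBC_inv, GrpObj.inv_comp, GrpObj.inv_comp, hz]⟩
    · obtain ⟨f'', hf''⟩ := hf
      refine ⟨toBC σ x s ≫ f'', ?_⟩
      rw [Category.assoc, hf'', Functor.map_comp, ← Category.assoc, toBC_comp_map]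
  obtain ⟨e, he⟩ := (hQ (T := 𝟙_ (Over S)) 1).2 ⟨1, by rw [MonObj.one_comp, MonObj.one_comp]⟩
  obtain ⟨m, hm⟩ := (hQ ((fst _ _ ≫ q) * (snd (Limits.pullback i' bi) (Limits.pullback i' bi) ≫ q))).2 (by
    obtain ⟨a, ha⟩ := (hQ (fst (Limits.pullback i' bi) (Limits.pullback i' bi) ≫ q)).1 ⟨_, rfl⟩
    obtain ⟨b, hb⟩ := (hQ (snd (Limits.pullback i' bi) (Limits.pullback i' bi) ≫ q)).1 ⟨_, rfl⟩
    exact ⟨a * b, by rw [MonObj.mul_comp, MonObj.mul_comp, ha, hb]⟩)
  obtain ⟨v, hv⟩ := (hQ q⁻¹).2 (by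
    obtain ⟨a, ha⟩ := (hQ q).1 ⟨𝟙 _, Category.id_comp _⟩
    exact ⟨a⁻¹, by rw [GrpObj.inv_comp, GrpObj.inv_comp, ha]⟩)
  have he' : e ≫ q = η[Red.bc σ Γ] := by rw [he, Hom.one_def, toUnit_unique (toUnit _) (𝟙 _), Category.id_comp]
  have hm' : m ≫ q = (q ⊗ₘ q) ≫ μ[Red.bc σ Γ] := by rw [hm, Hom.mul_def, lift_fst_comp_snd_comp]
  have hv' : v ≫ q = q ≫ ι[Red.bc σ Γ] := by rw [hv]; rfl
  letI := AbRigid.grpObjOfMono q e he' m hm' v hv'
  haveI : IsMonHom q := ⟨he', hm'⟩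
  have hsurj : Function.Surjective ql := by
    intro p
    let p0 : ↥(Limits.pullback Γ.hom σ) := p
    let s : S := Limits.pullback.snd Γ.hom σ p0
    let Sp : Over (Spec (CommRingCat.of k)) := Over.mk (S.fromSpecResidueField s ≫ σ)
    let b : Sp ⟶ Sk := Over.homMk (S.fromSpecResidueField s) rfl
    let yf := S.fromSpecResidueField s
    have hcl : IsClosedImmersion ((Over.pullback yf).map q).left := by
      haveI : IsImmersion ((Over.pullback yf).map q).left :=
        MorphismProperty.of_isPullback (P := @IsImmersion) (GrpFin20.isPullback_map yf q) hqimm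
      letI : GrpObj ((Over.pullback yf).obj (Limits.pullback i' bi)) := Functor.grpObjObj
      letI : GrpObj ((Over.pullback yf).obj (Red.bc σ Γ)) := Functor.grpObjObj
      exact AbRigid.isClosedImmersion_of_isImmersion (K := S.residueField s) ((Over.pullback yf).map q)
    have hw : IsPullback (Γ ◁ b).left (snd Γ Sp).left (Limits.pullback.snd Γ.hom σ) yf :=
      (GrpQuot20.isPullback_whiskerLeft' Γ b).map (Over.forget _)
    have hb' : IsClosedImmersion (Limits.pullback.snd y (Γ ◁ b)).left := by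
      have h1 : IsPullback (Limits.pullback.fst y (Γ ◁ b)).left (Limits.pullback.snd y (Γ ◁ b)).left ql (Γ ◁ b).left :=
        (IsPullback.of_hasPullback y (Γ ◁ b)).map (Over.forget _)
      let M := Limits.pullback.snd ql (Limits.pullback.fst (Limits.pullback.snd Γ.hom σ) yf)
      have hM : IsClosedImmersion M := by
        have hsq : IsPullback (Limits.pullback.fst (Limits.pullback i' bi).hom yf) ((Over.pullback yf).map q).left
            ql (Limits.pullback.fst (Limits.pullback.snd Γ.hom σ) yf) := GrpFin20.isPullback_map yf q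
        rw [← MorphismProperty.cancel_left_of_respectsIso (P := @IsClosedImmersion) hsq.isoPullback.hom,
          hsq.isoPullback_hom_snd]
        exact hcl
      have h2 : IsPullback (Limits.pullback.fst y (Γ ◁ b)).left
          ((Limits.pullback.snd y (Γ ◁ b)).left ≫ hw.isoPullback.hom) ql (Limits.pullback.fst (Limits.pullback.snd Γ.hom σ) yf) :=
        IsPullback.of_iso h1 (Iso.refl _) (Iso.refl _) hw.isoPullback (Iso.refl _) (by simp) (by simp) (by simp) (by simp)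
      have h3 : IsClosedImmersion ((Limits.pullback.snd y (Γ ◁ b)).left ≫ hw.isoPullback.hom) := by
        rw [← h2.isoPullback_hom_snd]
        haveI := hM
        infer_instance
      exact (MorphismProperty.cancel_right_of_respectsIso (P := @IsClosedImmersion) _ _).1 h3
    haveI := hb'
    have hr := range_eq_univ_of_pairMem _ (pairMem_of_closed f' hgen _ (hclosed.pullback b) (fst Γ Sp) (snd Γ Sp))
    obtain ⟨p', hp', -⟩ := Scheme.exists_preimage_of_isPullback hw p0 (IsLocalRing.closedPoint (S.residueField s) : Spec (S.residueField s))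
      (Scheme.fromSpecResidueField_apply _ _).symm
    obtain ⟨z, rfl⟩ : p' ∈ Set.range (Limits.pullback.snd y (Γ ◁ b)).left := hr ▸ trivial
    refine ⟨(Limits.pullback.fst y (Γ ◁ b)).left z, ?_⟩
    show y.left _ = p
    rw [← AbRigid.left_comp_apply, Limits.pullback.condition, AbRigid.left_comp_apply]
    exact hp'
  haveI : IsClosedImmersion y.left := by
    haveI : IsImmersion y.left := hqimm
    refine IsClosedImmersion.of_isPreimmersion _ ?_
    rw [show Set.range y.left = Set.univ from Set.range_eq_univ.2 hsurj]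
    exact isClosed_univ
  obtain ⟨z, hz⟩ := pairMem_of_closed f' hgen y hclosed (fst Γ Sk) (snd Γ Sk)
  rw [lift_fst_snd] at hz
  have hz' : z.left ≫ ql = 𝟙 _ := congrArg CommaMorphism.left hz
  obtain ⟨j, hj⟩ := (hQ (𝟙 (Red.bc σ Γ))).1 ⟨Over.homMk z.left (by
    rw [← Over.w q]
    show z.left ≫ ql ≫ _ = _
    rw [← Category.assoc, hz', Category.id_comp]), Over.OverMorphism.ext hz'⟩
  exact ⟨j, hj.trans (Category.id_comp _)⟩

end Groth.Agent.GrpGen20
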