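import Groth.Agent.Lib.GrpGen20.BoundedNormal
import Groth.Agent.Lib.GrpField.Component
import Groth.Agent.Lib.AbSchRigid22.Basic

/-!
# Commutator subgroups over a field are of finite type
-/

set_option autoImplicit false
set_option backward.isDefEq.respectTransparency false
set_option backward.isDefEq.respectTransparency.types false

universe u

open CategoryTheory CategoryTheory.Limits MonoidalCategory CartesianMonoidalCategory MonObj GrpObj AlgebraicGeometry

open scoped commutatorElement

noncomputable section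

namespace Groth.Agent.GrpGen20

variable {k : Type u} [Field k] {G X : Over (Spec (CommRingCat.of k))} [GrpObj G]

/-- The universal tuples. -/
theorem exists_univ_tuple [LocallyOfFiniteType X.hom] [QuasiCompact X.hom] (n : ℕ) :
    ∃ (W : Over (Spec (CommRingCat.of k))) (y : Fin n → (W ⟶ X)),
      LocallyOfFiniteType W.hom ∧ QuasiCompact W.hom ∧
      ∀ (T : Over (Spec (CommRingCat.of k))) (x : Fin n → (T ⟶ X)), ∃ t : T ⟶ W, ∀ j, t ≫ y j = x j := by
  induction n with
  | zero =>
    exact ⟨𝟙_ _, Fin.elim0, inferInstanceAs (LocallyOfFiniteType (𝟙 _)), inferInstanceAs (QuasiCompact (𝟙 _)),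
      fun T x => ⟨toUnit T, fun j => j.elim0⟩⟩
  | succ n ih =>
    obtain ⟨W, y, hW, hW', hy⟩ := ih
    refine ⟨X ⊗ W, Fin.cons (fst X W) (fun j => snd X W ≫ y j),
      inferInstanceAs (LocallyOfFiniteType (Limits.pullback.fst X.hom W.hom ≫ X.hom)),
      inferInstanceAs (QuasiCompact (Limits.pullback.fst X.hom W.hom ≫ X.hom)), fun T x => ?_⟩
    obtain ⟨t, ht⟩ := hy T (fun j => x j.succ)
    refine ⟨lift (x 0) t, Fin.cases (by simp) (fun i => by simp [ht i])⟩

theorem isCompact_wordSet [LocallyOfFiniteType X.hom] [QuasiCompact X.hom] (f : X ⟶ G) (n : ℕ) :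
    IsCompact (wordSet f n) := by
  obtain ⟨W, y, hW, hWqc, hy⟩ := exists_univ_tuple (X := X) n
  haveI := hWqc
  haveI : CompactSpace W.left := QuasiCompact.compactSpace_of_compactSpace W.hom
  have h : wordSet f n = ⋃ ε : Fin n → Bool, Set.range (sval f y ε).left := by
    ext g
    constructor
    · rintro ⟨T, p, x, ε, rfl⟩
      obtain ⟨t, ht⟩ := hy T x
      exact Set.mem_iUnion.2 ⟨ε, t.left p, by rw [← AbRigid.left_comp_apply, comp_sval, funext ht]⟩
    · intro hg
      obtain ⟨ε, w, rfl⟩ := Set.mem_iUnion.1 hg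
      exact ⟨W, w, y, ε, rfl⟩
  rw [h]
  exact isCompact_iUnion fun ε => isCompact_range (sval f y ε).left.continuous

theorem wordSet_comp_iso {X' : Over (Spec (CommRingCat.of k))} (e : X' ≅ X) (f : X ⟶ G) (n : ℕ) :
    wordSet (e.hom ≫ f) n = wordSet f n := by
  ext g
  constructor
  · rintro ⟨T, p, x, ε, rfl⟩
    exact ⟨T, p, fun j => x j ≫ e.hom, ε, by simp [sval]⟩
  · rintro ⟨T, p, x, ε, rfl⟩
    exact ⟨T, p, fun j => x j ≫ e.inv, ε, by simp [sval]⟩

theorem bound_descend {K : Type u} [Field K] (σ : Spec (CommRingCat.of K) ⟶ Spec (CommRingCat.of k)) (f : X ⟶ G)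
    {n : ℕ} (h : ∀ m, wordSet ((Over.pullback σ).map f) m ⊆ closure (wordSet ((Over.pullback σ).map f) n)) (m : ℕ) :
    wordSet f m ⊆ closure (wordSet f n) :=
  (wordSet_subset_image_bc f σ m).trans ((Set.image_mono (h m)).trans
    ((image_closure_subset_closure_image (Limits.pullback.fst G.hom σ).continuous).trans
      (closure_mono (image_wordSet_bc_subset f σ n))))

theorem isNormalHom_bc {A : Over (Spec (CommRingCat.of k))} [GrpObj A] (a : A ⟶ G)
    (ha : AlgGrp.IsNormalHom a) {K : Type u} [Field K] (σ : Spec (CommRingCat.of K) ⟶ Spec (CommRingCat.of k)) :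
    AlgGrp.IsNormalHom ((Over.pullback σ).map a) := by
  intro T g n
  have hnat : ∀ x : T ⟶ Red.bc σ A, DiagGL.fl σ G (x ≫ (Over.pullback σ).map a) = DiagGL.fl σ A x ≫ a :=
    fun x => Adjunction.homEquiv_naturality_right_symm _ _ _
  obtain ⟨n', hn'⟩ := ha ((Over.map σ).obj T) (DiagGL.fl σ G g) (DiagGL.fl σ A n)
  obtain ⟨m, rfl⟩ := DiagGL.fl_surjective σ A n'
  refine ⟨m, DiagGL.fl_injective σ G ?_⟩
  rw [hnat, DiagGL.fl_mul, DiagGL.fl_mul, fl_inv]
  exact (congrArg (fun z => DiagGL.fl σ G g * z * (DiagGL.fl σ G g)⁻¹) (hnat n)).trans hn'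

/-- A connected group locally of finite type over an algebraically closed field is quasi-compact. -/
theorem compactSpace_of_connected_alg {K : Type u} [Field K] [IsAlgClosed K]
    (A : Over (Spec (CommRingCat.of K))) [GrpObj A] [LocallyOfFiniteType A.hom] [ConnectedSpace A.left] :
    CompactSpace A.left := by
  obtain ⟨U, hU, hxU, -⟩ := exists_isAffineOpen_mem_and_subset (X := A.left)
    (x := η[A].left (IsLocalRing.closedPoint K)) (U := ⊤) trivial
  have hcc := PreconnectedSpace.connectedComponent_eq_univ (η[A].left (IsLocalRing.closedPoint K))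
  have h := GrpField.connectedComponent_subset_range_div A U ⟨_, hxU⟩ (by rw [hcc]; exact Set.subset_univ _)
  haveI : IsAffine U.toScheme := hU
  haveI : QuasiCompact (U.ι ≫ A.hom) := HasAffineProperty.iff_of_isAffine.mpr (inferInstanceAs (CompactSpace U.toScheme))
  let W : Over (Spec (CommRingCat.of K)) := Over.mk (U.ι ≫ A.hom)
  haveI : QuasiCompact W.hom := ‹QuasiCompact (U.ι ≫ A.hom)›
  haveI : CompactSpace (W ⊗ W).left := by
    haveI : QuasiCompact (W ⊗ W).hom := inferInstanceAs (QuasiCompact (Limits.pullback.fst W.hom W.hom ≫ W.hom))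
    exact QuasiCompact.compactSpace_of_compactSpace (W ⊗ W).hom
  refine ⟨?_⟩
  rw [← Set.Subset.antisymm (Set.subset_univ _) (hcc.symm.le.trans h)]
  exact isCompact_range (((Over.homMk U.ι rfl : W ⟶ A) ⊗ₘ ((Over.homMk U.ι rfl : W ⟶ A) ≫ ι[A])) ≫ μ[A]).left.continuous

theorem geometricallyConnected_of_connected (A : Over (Spec (CommRingCat.of k))) [GrpObj A] [ConnectedSpace A.left] :
    GeometricallyConnected A.hom := by
  haveI : GeometricallyConnected (η[A].left ≫ A.hom) := by
    rw [Over.w η[A]]; exact AbSchRigid22.geometricallyConnected_id _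
  exact GeomIrr.geometricallyConnected_of_hom A.hom η[A].left (IsLocalRing.closedPoint k)

/-- A connected group locally of finite type over a field is quasi-compact. -/
theorem quasiCompact_of_connected (A : Over (Spec (CommRingCat.of k))) [GrpObj A] [LocallyOfFiniteType A.hom]
    [ConnectedSpace A.left] : QuasiCompact A.hom := by
  haveI := geometricallyConnected_of_connected A
  let σ : Spec (CommRingCat.of (AlgebraicClosure k)) ⟶ Spec (CommRingCat.of k) :=
    Spec.map (CommRingCat.ofHom (algebraMap k (AlgebraicClosure k)))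
  haveI : ConnectedSpace ↥(Red.bc σ A).left :=
    GeometricallyConnected.geometrically_connectedSpace _ _ _ (IsPullback.of_hasPullback A.hom σ)
  haveI : LocallyOfFiniteType (Red.bc σ A).hom := inferInstanceAs (LocallyOfFiniteType (Limits.pullback.snd A.hom σ))
  haveI := compactSpace_of_connected_alg (Red.bc σ A)
  haveI : Surjective σ := ⟨fun p => ⟨IsLocalRing.closedPoint _, Subsingleton.elim (α := PrimeSpectrum k) _ _⟩⟩
  haveI hs : Surjective (Limits.pullback.fst A.hom σ) :=
    MorphismProperty.pullback_fst (P := @Surjective) _ _ inferInstance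
  haveI : CompactSpace A.left := ⟨by
    rw [← Set.range_eq_univ.2 hs.surj]
    exact @isCompact_range _ _ _ _ ‹CompactSpace ↥(Red.bc σ A).left› _ (Limits.pullback.fst A.hom σ).continuous⟩
  exact HasAffineProperty.iff_of_isAffine.mpr ‹_›

variable {A B : Over (Spec (CommRingCat.of k))} [GrpObj A] [GrpObj B] [LocallyOfFiniteType G.hom]
  [LocallyOfFiniteType A.hom] [LocallyOfFiniteType B.hom] [QuasiCompact A.hom] [QuasiCompact B.hom]
  (a : A ⟶ G) [IsMonHom a] (b : B ⟶ G) [IsMonHom b]

omit [LocallyOfFiniteType G.hom] [LocallyOfFiniteType A.hom] [LocallyOfFiniteType B.hom] [QuasiCompact A.hom]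
  [QuasiCompact B.hom] [IsMonHom a] [IsMonHom b] [GrpObj A] [GrpObj B] in
theorem map_commHom {K : Type u} [Field K] (σ : Spec (CommRingCat.of K) ⟶ Spec (CommRingCat.of k)) :
    Functor.LaxMonoidal.μ (Over.pullback σ) A B ≫ (Over.pullback σ).map (commHom a b) =
      commHom ((Over.pullback σ).map a) ((Over.pullback σ).map b) := by
  simp only [commHom, Functor.map_mul, Functor.map_inv', Functor.map_comp, MonObj.comp_mul, GrpObj.comp_inv,
    Functor.Monoidal.μ_fst_assoc, Functor.Monoidal.μ_snd_assoc]

theorem exists_bound_commHom_normal (hA : AlgGrp.IsNormalHom a) (hB : AlgGrp.IsNormalHom b) :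
    ∃ n, ∀ m, wordSet (commHom a b) m ⊆ closure (wordSet (commHom a b) n) := by
  let σ : Spec (CommRingCat.of (AlgebraicClosure k)) ⟶ Spec (CommRingCat.of k) :=
    Spec.map (CommRingCat.ofHom (algebraMap k (AlgebraicClosure k)))
  haveI : LocallyOfFiniteType (Red.bc σ G).hom := inferInstanceAs (LocallyOfFiniteType (Limits.pullback.snd G.hom σ))
  haveI : LocallyOfFiniteType (Red.bc σ A).hom := inferInstanceAs (LocallyOfFiniteType (Limits.pullback.snd A.hom σ))
  haveI : LocallyOfFiniteType (Red.bc σ B).hom := inferInstanceAs (LocallyOfFiniteType (Limits.pullback.snd B.hom σ))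
  haveI : QuasiCompact (Red.bc σ A).hom := inferInstanceAs (QuasiCompact (Limits.pullback.snd A.hom σ))
  haveI : QuasiCompact (Red.bc σ B).hom := inferInstanceAs (QuasiCompact (Limits.pullback.snd B.hom σ))
  obtain ⟨n, hn⟩ := exists_bound_normal ((Over.pullback σ).map a) ((Over.pullback σ).map b)
    (isNormalHom_bc a hA σ) (isNormalHom_bc b hB σ)
  refine ⟨n, bound_descend σ _ fun m => ?_⟩
  rw [← wordSet_comp_iso (asIso (Functor.LaxMonoidal.μ (Over.pullback σ) A B)) _ m,
    ← wordSet_comp_iso (asIso (Functor.LaxMonoidal.μ (Over.pullback σ) A B)) _ n, asIso_hom, map_commHom]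
  exact hn m

theorem exists_bound_commHom_connected [GeometricallyConnected A.hom] :
    ∃ (n : ℕ) (W : Set G.left), IsIrreducible W ∧ W ⊆ closure (wordSet (commHom a b) n) ∧
      ∀ m, wordSet (commHom a b) m ⊆ closure W := by
  let σ : Spec (CommRingCat.of (AlgebraicClosure k)) ⟶ Spec (CommRingCat.of k) :=
    Spec.map (CommRingCat.ofHom (algebraMap k (AlgebraicClosure k)))
  haveI : LocallyOfFiniteType (A ⊗ B).hom :=
    inferInstanceAs (LocallyOfFiniteType (Limits.pullback.fst A.hom B.hom ≫ A.hom))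
  haveI : QuasiCompact (A ⊗ B).hom := inferInstanceAs (QuasiCompact (Limits.pullback.fst A.hom B.hom ≫ A.hom))
  refine exists_bound_field (commHom a b) σ fun x => ?_
  let ψ := (Over.pullback σ).map (snd A B)
  have hsq : IsPullback ψ.left (Limits.pullback.fst (A ⊗ B).hom σ) (Limits.pullback.fst B.hom σ) (snd A B).left := by
    have hl : ψ.left ≫ Limits.pullback.fst B.hom σ = Limits.pullback.fst (A ⊗ B).hom σ ≫ (snd A B).left := by
      simp [ψ]
    have ho : IsPullback (ψ.left ≫ Limits.pullback.snd B.hom σ) (Limits.pullback.fst (A ⊗ B).hom σ) σ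
        ((snd A B).left ≫ B.hom) := by
      rw [Over.w (snd A B), show ψ.left ≫ Limits.pullback.snd B.hom σ = Limits.pullback.snd (A ⊗ B).hom σ from Over.w ψ]
      exact (IsPullback.of_hasPullback _ σ).flip
    exact IsPullback.of_right ho hl (IsPullback.of_hasPullback B.hom σ).flip
  haveI : GeometricallyConnected (snd A B).left :=
    inferInstanceAs (GeometricallyConnected (Limits.pullback.snd A.hom B.hom))
  haveI : GeometricallyConnected ψ.left :=
    MorphismProperty.of_isPullback (P := @GeometricallyConnected) hsq.flip inferInstance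
  refine ⟨ψ.left ⁻¹' {ψ.left x}, (ψ.left.isConnected_preimage_singleton _).isPreconnected, rfl,
    ((Over.pullback σ).map (lift (1 : B ⟶ A) (𝟙 B))).left (ψ.left x), ?_, ?_⟩
  · show ψ.left _ = ψ.left x
    rw [← Scheme.Hom.comp_apply, ← Over.comp_left, ← Functor.map_comp, lift_snd, CategoryTheory.Functor.map_id]
    rfl
  · refine ((congrArg (commHom a b).left ((Scheme.Hom.comp_apply _ _ _).symm.trans
      (congrArg (fun v : _ ⟶ (A ⊗ B).left => v (ψ.left x)) (show
        ((Over.pullback σ).map (lift (1 : B ⟶ A) (𝟙 B))).left ≫ Limits.pullback.fst (A ⊗ B).hom σ =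
          Limits.pullback.fst B.hom σ ≫ (lift (1 : B ⟶ A) (𝟙 B)).left by simp))))).trans ?_
    rw [Scheme.Hom.comp_apply, ← AbRigid.left_comp_apply, comp_commHom, lift_fst, lift_snd, MonObj.one_comp,
      Category.id_comp, show ⁅(1 : B ⟶ G), b⁆ = toUnit B ≫ η[G] by rw [commutatorElement_one_left, Hom.one_def],
      AbRigid.left_comp_apply]
    exact congrArg _ (Subsingleton.elim (α := Spec (CommRingCat.of k)) _ _)

end Groth.Agent.GrpGen20
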