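import Groth.Agent.Lib.GrpGen20.GeomRed
import Groth.Agent.Lib.AbRigid.GrpTop
import Groth.Agent.Lib.AbRigid.Image
import Groth.Agent.Lib.AbSchRigid22.Basic

/-!
# The closed subgroup generated by a geometrically reduced scheme over a field
-/

set_option autoImplicit false

universe u

open CategoryTheory CategoryTheory.Limits MonoidalCategory CartesianMonoidalCategory MonObj GrpObj AlgebraicGeometry

namespace Groth.Agent.GrpGen20

variable {k : Type u} [Field k] {G X : Over (Spec (CommRingCat.of k))} [GrpObj G] (f : X ⟶ G)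

/-- The morphisms to `G` built from `f` by products and inverses. -/
inductive Word : ∀ {T : Over (Spec (CommRingCat.of k))}, (T ⟶ G) → Prop
  | base : Word f
  | one : Word η[G]
  | inv {T : Over (Spec (CommRingCat.of k))} {g : T ⟶ G} : Word g → Word g⁻¹
  | mul {T T' : Over (Spec (CommRingCat.of k))} {g : T ⟶ G} {g' : T' ⟶ G} :
      Word g → Word g' → Word ((fst T T' ≫ g) * (snd T T' ≫ g'))

/-- The points of `G` in the image of some word. -/
def genSet : Set G.left :=
  {x | ∃ (T : Over (Spec (CommRingCat.of k))) (g : T ⟶ G), Word f g ∧ x ∈ Set.range g.left}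

theorem word_geomReduced [GeometricallyReduced X.hom] {T : Over (Spec (CommRingCat.of k))} {g : T ⟶ G}
    (h : Word f g) : GeometricallyReduced T.hom := by
  induction h with
  | base => infer_instance
  | one => exact geometricallyReduced_unit
  | inv _ ih => exact ih
  | mul _ _ ih ih' =>
    haveI := ih
    haveI := ih'
    exact geometricallyReduced_tensorObj _ _

theorem word_factor {Γ : Over (Spec (CommRingCat.of k))} [GrpObj Γ] (i : Γ ⟶ G) [IsMonHom i]
    (hf : ∃ f' : X ⟶ Γ, f' ≫ i = f) {T : Over (Spec (CommRingCat.of k))} {g : T ⟶ G} (h : Word f g) :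
    ∃ g' : T ⟶ Γ, g' ≫ i = g := by
  induction h with
  | base => exact hf
  | one => exact ⟨η[Γ], IsMonHom.one_hom i⟩
  | inv _ ih => obtain ⟨a, rfl⟩ := ih; exact ⟨a⁻¹, GrpObj.inv_comp a i⟩
  | mul _ _ ih ih' =>
    obtain ⟨a, rfl⟩ := ih
    obtain ⟨b, rfl⟩ := ih'
    exact ⟨(fst _ _ ≫ a) * (snd _ _ ≫ b), by rw [MonObj.mul_comp, Category.assoc, Category.assoc]⟩

theorem one_mem_genSet : η[G].left (IsLocalRing.closedPoint k) ∈ genSet f :=
  ⟨_, η[G], Word.one, ⟨IsLocalRing.closedPoint k, rfl⟩⟩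

theorem mulStable_genSet : AbRigid.MulStable (genSet f) := by
  rintro q ⟨T, g, hg, t, ht⟩ ⟨T', g', hg', t', ht'⟩
  have hq : q ∈ Set.range (g ⊗ₘ g').left := by
    rw [Over.tensorHom_left, Scheme.Pullback.range_map]
    exact ⟨⟨t, ht⟩, ⟨t', ht'⟩⟩
  obtain ⟨w, rfl⟩ := hq
  refine ⟨_, _, hg.mul hg', w, ?_⟩
  rw [← AbRigid.left_comp_apply, Hom.mul_def, lift_fst_comp_snd_comp]

theorem inv_mem_genSet {x : G.left} (hx : x ∈ genSet f) : ι[G].left x ∈ genSet f := by
  obtain ⟨T, g, hg, t, rfl⟩ := hx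
  refine ⟨T, g⁻¹, hg.inv, t, ?_⟩
  rw [← AbRigid.left_comp_apply, ← Hom.inv_def]

theorem mulStable_closure {R : Set G.left} (hR : AbRigid.MulStable R) : AbRigid.MulStable (closure R) := by
  intro q h1 h2
  rw [mem_closure_iff]
  intro O hO hq
  have hW : IsOpen ((fst G G).left '' (μ[G].left ⁻¹' O ∩ (snd G G).left ⁻¹' {(snd G G).left q})) :=
    AbRigid.isOpen_image_fst_fibre G G _ (hO.preimage μ[G].left.continuous) _
  obtain ⟨a, ⟨q', ⟨hq'O, hq'2⟩, rfl⟩, ha⟩ := mem_closure_iff.1 h1 _ hW ⟨q, ⟨hq, rfl⟩, rfl⟩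
  have hW' : IsOpen ((snd G G).left '' (μ[G].left ⁻¹' O ∩ (fst G G).left ⁻¹' {(fst G G).left q'})) :=
    AbRigid.isOpen_image_snd_fibre G G _ (hO.preimage μ[G].left.continuous) _
  obtain ⟨b, ⟨q'', ⟨hq''O, hq''1⟩, rfl⟩, hb⟩ :=
    mem_closure_iff.1 h2 _ hW' ⟨q', ⟨hq'O, rfl⟩, hq'2⟩
  exact ⟨_, hq''O, hR q'' ((hq''1 : (fst G G).left q'' = _) ▸ ha) hb⟩

/-- The closed subgroup generated by `f`. -/
theorem exists_generated [GeometricallyReduced X.hom] :
    ∃ (Γ : Over (Spec (CommRingCat.of k))) (_ : GrpObj Γ) (i : Γ ⟶ G), IsMonHom i ∧ IsClosedImmersion i.left ∧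
      (∃ f' : X ⟶ Γ, f' ≫ i = f) ∧ GeometricallyReduced Γ.hom ∧ Set.range i.left = closure (genSet f) ∧
      ∀ (Γ' : Over (Spec (CommRingCat.of k))) (_ : GrpObj Γ') (i' : Γ' ⟶ G), IsMonHom i' → IsClosedImmersion i'.left →
        (∃ f'' : X ⟶ Γ', f'' ≫ i' = f) → ∃ j : Γ ⟶ Γ', j ≫ i' = i := by
  let I := Scheme.IdealSheafData.vanishingIdeal (TopologicalSpace.Closeds.closure (genSet f))
  haveI : IsReduced I.subscheme := RedSepLib.isReduced_vanishingIdeal_subscheme _
  let Γ : Over (Spec (CommRingCat.of k)) := Over.mk (I.subschemeι ≫ G.hom)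
  let i : Γ ⟶ G := Over.homMk I.subschemeι rfl
  haveI : IsReduced Γ.left := ‹IsReduced I.subscheme›
  haveI : IsClosedImmersion i.left := inferInstanceAs (IsClosedImmersion I.subschemeι)
  haveI : Mono i := Over.mono_of_mono_left i
  have hrange : Set.range i.left = closure (genSet f) := by
    show Set.range I.subschemeι = _
    rw [Scheme.IdealSheafData.range_subschemeι, Scheme.IdealSheafData.coe_support_vanishingIdeal]
    rfl
  have lift' : ∀ {T : Over (Spec (CommRingCat.of k))} [IsReduced T.left] (g : T ⟶ G),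
      Set.range g.left ⊆ closure (genSet f) → ∃ g' : T ⟶ Γ, g' ≫ i = g := by
    intro T _ g hg
    obtain ⟨l, hl⟩ := RedSepLib.exists_lift_of_range_subset g.left i.left (hrange ▸ hg)
    exact ⟨Over.homMk l (by rw [← Over.w i, reassoc_of% hl, Over.w g]), Over.OverMorphism.ext hl⟩
  haveI hGR : GeometricallyReduced Γ.hom := by
    refine GeomRed21.geometricallyReduced_of_dense _ (fun w => ?_)
    rw [i.left.isClosedEmbedding.isInducing.closure_eq_preimage_closure_image]
    show i.left w ∈ closure _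
    have hw : i.left w ∈ closure (genSet f) := hrange ▸ ⟨w, rfl⟩
    refine closure_minimal ?_ isClosed_closure hw
    rintro x ⟨T, g, hg, t, rfl⟩
    haveI := word_geomReduced f hg
    have hsub : g.left '' {t | GeomRed21.GRPt T.hom t} ⊆ i.left '' {z | GeomRed21.GRPt Γ.hom z} := by
      rintro _ ⟨t', ht', rfl⟩
      obtain ⟨z, hz⟩ : g.left t' ∈ Set.range i.left := hrange ▸ subset_closure ⟨T, g, hg, t', rfl⟩
      refine ⟨z, GeomRed21.gRPt_of_closedImmersion i.left (Over.w i) ?_, hz⟩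
      rw [hz]
      exact GeomRed21.gRPt_image g.left (Over.w g) ht'
    refine closure_mono hsub ?_
    exact image_closure_subset_closure_image g.left.continuous ⟨t, GeomRed21.dense_gRPt T.hom t, rfl⟩
  haveI := geometricallyReduced_tensorObj Γ Γ
  haveI : IsReduced (Γ ⊗ Γ).left := isReduced_of_geomReduced (Γ ⊗ Γ).hom
  haveI : IsReduced (𝟙_ (Over (Spec (CommRingCat.of k)))).left :=
    inferInstanceAs (IsReduced (Spec (CommRingCat.of k)))
  obtain ⟨m, hm⟩ := lift' ((i ⊗ₘ i) ≫ μ[G]) (by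
    rintro _ ⟨z, rfl⟩
    rw [AbRigid.left_comp_apply]
    refine mulStable_closure (mulStable_genSet f) _ ?_ ?_
    · rw [← AbRigid.left_comp_apply, tensorHom_fst, AbRigid.left_comp_apply]; exact hrange ▸ ⟨_, rfl⟩
    · rw [← AbRigid.left_comp_apply, tensorHom_snd, AbRigid.left_comp_apply]; exact hrange ▸ ⟨_, rfl⟩)
  obtain ⟨e, he⟩ := lift' η[G] (fun x hx => subset_closure ⟨_, _, Word.one, hx⟩)
  obtain ⟨v, hv⟩ := lift' (i ≫ ι[G]) (by
    rintro _ ⟨z, rfl⟩
    rw [AbRigid.left_comp_apply]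
    exact map_mem_closure ι[G].left.continuous (hrange ▸ ⟨z, rfl⟩) fun _ hy => inv_mem_genSet f hy)
  letI := AbRigid.grpObjOfMono i e he m hm v hv
  haveI : IsReduced X.left := isReduced_of_geomReduced X.hom
  refine ⟨Γ, inferInstance, i, ⟨he, hm⟩, inferInstance, lift' f (fun x hx => subset_closure ⟨_, _, Word.base, hx⟩),
    hGR, hrange, fun Γ' _ i' hi' hc' hf' => ?_⟩
  have hsub : Set.range i.left ⊆ Set.range i'.left := by
    rw [hrange]
    refine closure_minimal ?_ i'.left.isClosedEmbedding.isClosed_range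
    rintro x ⟨T, g, hg, t, rfl⟩
    obtain ⟨g', hg'⟩ := word_factor f i' hf' hg
    exact ⟨g'.left t, by rw [← AbRigid.left_comp_apply, hg']⟩
  obtain ⟨l, hl⟩ := RedSepLib.exists_lift_of_range_subset i.left i'.left hsub
  exact ⟨Over.homMk l (by rw [← Over.w i', reassoc_of% hl, Over.w i]), Over.OverMorphism.ext hl⟩

/-- Words in a connected scheme with a point over the unit have connected sources. -/
theorem word_connected [ConnectedSpace X.left] (x : 𝟙_ (Over (Spec (CommRingCat.of k))) ⟶ X) (hx : x ≫ f = η[G])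
    {T : Over (Spec (CommRingCat.of k))} {g : T ⟶ G} (h : Word f g) :
    ConnectedSpace T.left ∧ ∃ p : 𝟙_ (Over (Spec (CommRingCat.of k))) ⟶ T, p ≫ g = η[G] := by
  induction h with
  | base => exact ⟨inferInstance, x, hx⟩
  | one => exact ⟨inferInstanceAs (ConnectedSpace (Spec (CommRingCat.of k))), 𝟙 _, Category.id_comp _⟩
  | inv _ ih =>
    obtain ⟨hc, p, hp⟩ := ih
    refine ⟨hc, p, ?_⟩
    rw [GrpObj.comp_inv, hp]
    simp [Hom.inv_def]
  | @mul T T' g g' _ _ ih ih' =>
    obtain ⟨hc, p, hp⟩ := ih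
    obtain ⟨hc', p', hp'⟩ := ih'
    haveI := hc
    haveI := hc'
    refine ⟨?_, lift p p', ?_⟩
    · haveI : GeometricallyConnected T.hom :=
        haveI : GeometricallyConnected (p.left ≫ T.hom) := by
          rw [Over.w p]; exact AbSchRigid22.geometricallyConnected_id _
        haveI : Nonempty ↥(𝟙_ (Over (Spec (CommRingCat.of k)))).left := ⟨IsLocalRing.closedPoint k⟩
        GeomIrr.geometricallyConnected_of_hom T.hom p.left (Nonempty.some inferInstance)
      exact inferInstanceAs (ConnectedSpace ↥(Limits.pullback T.hom T'.hom))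
    · rw [MonObj.comp_mul, lift_fst_assoc, lift_snd_assoc, hp, hp']
      simp [Hom.mul_def, one_eq_one]

theorem isPreconnected_genSet [ConnectedSpace X.left] (x : 𝟙_ (Over (Spec (CommRingCat.of k))) ⟶ X)
    (hx : x ≫ f = η[G]) : _root_.IsPreconnected (genSet f) := by
  refine isPreconnected_of_forall (η[G].left (IsLocalRing.closedPoint k)) fun y hy => ?_
  obtain ⟨T, g, hg, hyg⟩ := hy
  obtain ⟨hc, p, hp⟩ := word_connected f x hx hg
  haveI := hc
  exact ⟨Set.range g.left, fun z hz => ⟨T, g, hg, hz⟩, ⟨p.left (IsLocalRing.closedPoint k), by rw [← AbRigid.left_comp_apply, hp]⟩,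
    hyg, isPreconnected_range g.left.continuous⟩

end Groth.Agent.GrpGen20
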