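import Mathlib.GroupTheory.Schreier
import Mathlib.GroupTheory.FiniteAbelian.Basic
import Mathlib.GroupTheory.Commutator.Basic
import Mathlib.GroupTheory.QuotientGroup.Basic

/-!
# Commutator subgroups with finitely many commutators
-/

set_option autoImplicit false

universe u

open scoped commutatorElement

namespace Groth.Agent.GrpGen20

variable {M : Type u} [Group M]

/-- A finite set of commuting torsion elements generates a finite subgroup. -/
theorem finite_closure_of_torsion {T : Set M} (hT : T.Finite) (hc : ∀ x ∈ T, ∀ y ∈ T, x * y = y * x)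
    (ho : ∀ x ∈ T, IsOfFinOrder x) : Finite (Subgroup.closure T) := by
  letI : CommGroup (Subgroup.closure T) := { (Subgroup.closure T).toGroup with
    mul_comm := fun x y => Subtype.ext (Subgroup.isMulCommutative_closure hc |>.is_comm.comm x y |> congrArg Subtype.val) }
  haveI : Group.FG (Subgroup.closure T) := (Group.fg_iff_subgroup_fg _).mpr ⟨hT.toFinset, by simp⟩
  refine CommGroup.finite_of_fg_isMulTorsion _ fun g => ?_
  obtain ⟨x, hx⟩ := g
  induction hx using Subgroup.closure_induction with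
  | mem z hz => exact Submonoid.isOfFinOrder_coe.mp (ho z hz)
  | one => exact IsOfFinOrder.one
  | mul a b ha hb h1 h2 => exact (Commute.all (⟨a, ha⟩ : Subgroup.closure T) ⟨b, hb⟩).isOfFinOrder_mul h1 h2
  | inv a ha h => exact h.inv

/-- Finiteness passes up along a finite kernel. -/
theorem finite_of_finite_map (K C : Subgroup M) [K.Normal] [Finite K]
    (h : Finite (C.map (QuotientGroup.mk' K))) : Finite C := by
  let φ : C →* C.map (QuotientGroup.mk' K) := (QuotientGroup.mk' K).subgroupMap C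
  haveI : Finite φ.ker := Finite.of_injective (fun x : φ.ker => (⟨(x.1 : M),
    (QuotientGroup.eq_one_iff _).1 (congrArg Subtype.val x.2)⟩ : K))
    fun a b hab => Subtype.ext (Subtype.ext (by simpa using hab))
  haveI : Finite (C ⧸ φ.ker) := Finite.of_equiv _ (QuotientGroup.quotientKerEquivOfSurjective φ
    ((QuotientGroup.mk' K).subgroupMap_surjective C)).toEquiv.symm
  exact Finite.of_subgroup_quotient φ.ker

/-- The set of commutators. -/
def commSet (A B : Subgroup M) : Set M := {z | ∃ a ∈ A, ∃ b ∈ B, ⁅a, b⁆ = z}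

theorem commutator_eq_closure (A B : Subgroup M) : ⁅A, B⁆ = Subgroup.closure (commSet A B) :=
  rfl

theorem commSet_map {N : Type u} [Group N] (f : M →* N) (A B : Subgroup M) :
    commSet (A.map f) (B.map f) = f '' commSet A B := by
  ext z
  constructor
  · rintro ⟨_, ⟨a, ha, rfl⟩, _, ⟨b, hb, rfl⟩, rfl⟩
    exact ⟨_, ⟨a, ha, b, hb, rfl⟩, map_commutatorElement f a b⟩
  · rintro ⟨_, ⟨a, ha, b, hb, rfl⟩, rfl⟩
    exact ⟨_, ⟨a, ha, rfl⟩, _, ⟨b, hb, rfl⟩, (map_commutatorElement f a b).symm⟩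

theorem pow_commutator_of_commute {x y : M} (h : Commute x ⁅x, y⁆) :
    ∀ m : ℕ, ⁅x ^ m, y⁆ = ⁅x, y⁆ ^ m
  | 0 => by simp
  | m + 1 => by
    have ih := pow_commutator_of_commute h m
    calc ⁅x ^ (m + 1), y⁆ = x * ⁅x ^ m, y⁆ * x⁻¹ * ⁅x, y⁆ := by
          simp only [commutatorElement_def, pow_succ']; group
      _ = _ := by rw [ih, (h.pow_right m).eq, mul_inv_cancel_right, pow_succ]

theorem isOfFinOrder_of_pow_mem {z : M} {T : Set M} (hT : T.Finite) (h : ∀ m : ℕ, z ^ m ∈ T) : IsOfFinOrder z := by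
  by_contra hz
  exact Set.infinite_of_injective_forall_mem (injective_pow_iff_not_isOfFinOrder.mpr hz) h hT

theorem finite_commutator_central (A B : Subgroup M) [A.Normal] [B.Normal] (hfin : (commSet A B).Finite)
    (hc : ∀ z ∈ ⁅A, B⁆, ∀ y : M, y ∈ A ∨ y ∈ B → Commute z y) : Finite ↥⁅A, B⁆ := by
  rw [commutator_eq_closure]
  refine finite_closure_of_torsion hfin (fun x hx y hy => ?_) fun z hz => ?_
  · obtain ⟨a, ha, b, hb, rfl⟩ := hy
    exact hc x (Subgroup.subset_closure hx) _ (Or.inl (Subgroup.commutator_le_left A B (Subgroup.commutator_mem_commutator ha hb)))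
  · obtain ⟨a, ha, b, hb, rfl⟩ := hz
    refine isOfFinOrder_of_pow_mem hfin fun m => ⟨a ^ m, pow_mem ha m, b, hb, ?_⟩
    exact pow_commutator_of_commute (hc _ (Subgroup.commutator_mem_commutator ha hb) a (Or.inl ha)).symm m

theorem finite_commutator_abelian (A B : Subgroup M) [A.Normal] [B.Normal] (hfin : (commSet A B).Finite)
    (hc : ∀ x ∈ ⁅A, B⁆, ∀ y ∈ ⁅A, B⁆, Commute x y) : Finite ↥⁅A, B⁆ := by
  set C := ⁅A, B⁆
  let T : Set M := {z | ∃ x ∈ C, ∃ y : M, (y ∈ A ∨ y ∈ B) ∧ ⁅x, y⁆ = z}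
  have hCA : C ≤ A := Subgroup.commutator_le_left A B
  have hCB : C ≤ B := Subgroup.commutator_le_right A B
  have hTsub : ∀ x ∈ C, ∀ y : M, y ∈ A ∨ y ∈ B → ⁅x, y⁆ ∈ commSet A B ∪ (·⁻¹) '' commSet A B := by
    rintro x hx y (hy | hy)
    · exact Or.inr ⟨⁅y, x⁆, ⟨y, hy, x, hCB hx, rfl⟩, commutatorElement_inv y x⟩
    · exact Or.inl ⟨x, hCA hx, y, hy, rfl⟩
  have hfin2 := hfin.union (hfin.image (·⁻¹))
  have hTC : T ⊆ C := by
    rintro _ ⟨x, hx, y, hy, rfl⟩
    rcases hTsub x hx y hy with h | ⟨w, hw, hw'⟩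
    · exact Subgroup.subset_closure h
    · exact hw' ▸ inv_mem (Subgroup.subset_closure hw)
  have hTn : ∀ g : M, ∀ z ∈ T, g * z * g⁻¹ ∈ T := by
    rintro g _ ⟨x, hx, y, hy, rfl⟩
    refine ⟨g * x * g⁻¹, Subgroup.Normal.conj_mem inferInstance x hx g, g * y * g⁻¹, ?_,
      (conjugate_commutatorElement x y g).symm⟩
    exact hy.imp (fun h => Subgroup.Normal.conj_mem inferInstance y h g)
      (fun h => Subgroup.Normal.conj_mem inferInstance y h g)
  haveI : (Subgroup.closure T).Normal := ⟨fun z hz g => by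
    induction hz using Subgroup.closure_induction with
    | mem w hw => exact Subgroup.subset_closure (hTn g w hw)
    | one => simp
    | mul a b _ _ h1 h2 => rw [show g * (a * b) * g⁻¹ = g * a * g⁻¹ * (g * b * g⁻¹) by group]; exact mul_mem h1 h2
    | inv a _ h => rw [show g * a⁻¹ * g⁻¹ = (g * a * g⁻¹)⁻¹ by group]; exact inv_mem h⟩
  haveI : Finite (Subgroup.closure T) := by
    refine finite_closure_of_torsion (hfin2.subset ?_) (fun x hx y hy => hc x (hTC hx) y (hTC hy)) ?_
    · rintro _ ⟨x, hx, y, hy, rfl⟩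
      exact hTsub x hx y hy
    · rintro _ ⟨x, hx, y, hy, rfl⟩
      exact isOfFinOrder_of_pow_mem hfin2 fun m =>
        (pow_commutator_of_commute (hc x hx _ (hTC ⟨x, hx, y, hy, rfl⟩)) m) ▸ hTsub _ (pow_mem hx m) y hy
  let q := QuotientGroup.mk' (Subgroup.closure T)
  refine finite_of_finite_map (Subgroup.closure T) C ?_
  haveI := Subgroup.Normal.map ‹A.Normal› q (QuotientGroup.mk'_surjective _)
  haveI := Subgroup.Normal.map ‹B.Normal› q (QuotientGroup.mk'_surjective _)
  rw [Subgroup.map_commutator]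
  refine finite_commutator_central _ _ ((commSet_map q A B).symm ▸ hfin.image q) fun z hz y hy => ?_
  rw [← Subgroup.map_commutator] at hz
  obtain ⟨x, hx, rfl⟩ := hz
  obtain ⟨y, hy', rfl⟩ : ∃ y', (y' ∈ A ∨ y' ∈ B) ∧ q y' = y := by
    rcases hy with ⟨y', h, rfl⟩ | ⟨y', h, rfl⟩
    · exact ⟨y', Or.inl h, rfl⟩
    · exact ⟨y', Or.inr h, rfl⟩
  rw [← commutatorElement_eq_one_iff_commute, ← map_commutatorElement]
  exact (QuotientGroup.eq_one_iff _).2 (Subgroup.subset_closure ⟨x, hx, y, hy', rfl⟩)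

/-- **Baer**: if two normal subgroups have finitely many commutators, their commutator is finite. -/
theorem finite_commutator_of_finite_commSet (A B : Subgroup M) [A.Normal] [B.Normal]
    (hfin : (commSet A B).Finite) : Finite ↥⁅A, B⁆ := by
  set C := ⁅A, B⁆
  haveI : Finite (commutatorSet C) := by
    haveI : Finite ↥(commSet A B) := hfin
    refine Finite.of_injective (fun z : commutatorSet C => (⟨((z : C) : M), ?_⟩ : commSet A B))
      fun a b h => Subtype.ext (Subtype.ext (by simpa using congrArg Subtype.val h))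
    obtain ⟨x, y, h⟩ := z.2
    exact ⟨x, Subgroup.commutator_le_left A B x.2, y, Subgroup.commutator_le_right A B y.2, by rw [← h]; rfl⟩
  haveI : Finite ↥⁅C, C⁆ := by
    rw [← Subgroup.map_subtype_commutator]
    exact Finite.of_surjective _ (C.subtype.subgroupMap_surjective _)
  refine finite_of_finite_map ⁅C, C⁆ C ?_
  let q := QuotientGroup.mk' ⁅C, C⁆
  haveI := Subgroup.Normal.map ‹A.Normal› q (QuotientGroup.mk'_surjective _)
  haveI := Subgroup.Normal.map ‹B.Normal› q (QuotientGroup.mk'_surjective _)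
  rw [Subgroup.map_commutator]
  refine finite_commutator_abelian _ _ ((commSet_map q A B).symm ▸ hfin.image q) fun x hx y hy => ?_
  rw [← Subgroup.map_commutator] at hx hy
  obtain ⟨x, hx, rfl⟩ := hx
  obtain ⟨y, hy, rfl⟩ := hy
  rw [← commutatorElement_eq_one_iff_commute, ← map_commutatorElement]
  exact (QuotientGroup.eq_one_iff _).2 (Subgroup.commutator_mem_commutator hx hy)

end Groth.Agent.GrpGen20
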