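import Groth.Agent.Lib.GrpGen20.BoundedField
import Groth.Agent.Lib.GrpGen20.Baer
import Groth.Prelude.Def_AlgGrp

/-!
# Bounded generation of commutators of normal subgroups
-/

set_option autoImplicit false
set_option backward.isDefEq.respectTransparency false
set_option backward.isDefEq.respectTransparency.types false

universe u

open CategoryTheory CategoryTheory.Limits MonoidalCategory CartesianMonoidalCategory MonObj GrpObj AlgebraicGeometry

open scoped commutatorElement

noncomputable section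

namespace Groth.Agent.GrpGen20

theorem isOpen_connectedComponent' {α : Type*} [TopologicalSpace α] [TopologicalSpace.NoetherianSpace α] (x : α) :
    IsOpen (connectedComponent x) := by
  have h : (connectedComponent x)ᶜ =
      ⋃ D ∈ {D ∈ irreducibleComponents α | ¬ (D ∩ connectedComponent x).Nonempty}, D := by
    ext y
    simp only [Set.mem_compl_iff, Set.mem_iUnion, Set.mem_ofPred_eq, exists_prop]
    constructor
    · intro hy
      refine ⟨irreducibleComponent y, ⟨irreducibleComponent_mem_irreducibleComponents y, ?_⟩, mem_irreducibleComponent⟩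
      rintro ⟨z, hz, hzx⟩
      refine hy (connectedComponent_eq hzx ▸ ?_)
      exact isIrreducible_irreducibleComponent.isConnected.isPreconnected.subset_connectedComponent hz
        mem_irreducibleComponent
    · rintro ⟨D, ⟨-, hD⟩, hyD⟩ hy
      exact hD ⟨y, hyD, hy⟩
  rw [← isClosed_compl_iff, h]
  exact (TopologicalSpace.NoetherianSpace.finite_irreducibleComponents.subset fun D hD => hD.1).isClosed_biUnion
    fun D hD => isClosed_of_mem_irreducibleComponents D hD.1

theorem finite_connectedComponents' (α : Type*) [TopologicalSpace α] [CompactSpace α]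
    [TopologicalSpace.NoetherianSpace α] : (Set.range (connectedComponent : α → Set α)).Finite := by
  obtain ⟨t, ht⟩ := isCompact_univ.elim_finite_subcover (fun x : α => connectedComponent x)
    (fun x => isOpen_connectedComponent' x) (fun x _ => Set.mem_iUnion.2 ⟨x, mem_connectedComponent⟩)
  refine (t.finite_toSet.image connectedComponent).subset ?_
  rintro _ ⟨x, rfl⟩
  obtain ⟨y, hyt, hy⟩ := Set.mem_iUnion₂.1 (ht (Set.mem_univ x))
  exact ⟨y, hyt, connectedComponent_eq hy⟩

variable {K : Type u} [Field K] {G X : Over (Spec (CommRingCat.of K))} [GrpObj G]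

/-- The point of a rational point. -/
abbrev pt {Y : Over (Spec (CommRingCat.of K))} (g : 𝟙_ (Over (Spec (CommRingCat.of K))) ⟶ Y) : Y.left :=
  g.left (IsLocalRing.closedPoint K)

theorem pt_comp {Y Z : Over (Spec (CommRingCat.of K))} (g : 𝟙_ (Over (Spec (CommRingCat.of K))) ⟶ Y) (v : Y ⟶ Z) :
    pt (g ≫ v) = v.left (pt g) :=
  AbRigid.left_comp_apply g v _

theorem pt_one : pt (1 : 𝟙_ (Over (Spec (CommRingCat.of K))) ⟶ G) = η[G].left (IsLocalRing.closedPoint K) := by
  show (1 : 𝟙_ (Over (Spec (CommRingCat.of K))) ⟶ G).left _ = _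
  rw [Hom.one_def, toUnit_unique (toUnit _) (𝟙 _), Category.id_comp]

theorem wordSet_succ (f : X ⟶ G) (he : η[G].left (IsLocalRing.closedPoint K) ∈ Set.range f.left) {n : ℕ} :
    wordSet f n ⊆ wordSet f (n + 1) := by
  intro g hg
  have h : μ[G].left ((lift (𝟙 G) (toUnit G ≫ η[G])).left g) = g := by
    rw [← AbRigid.left_comp_apply, ← Hom.mul_def, ← Hom.one_def, _root_.mul_one]; rfl
  rw [← h]
  refine mul_mem_wordSet f _ ?_ ?_
  · rw [← AbRigid.left_comp_apply, lift_fst]; exact hg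
  · rw [← AbRigid.left_comp_apply, lift_snd, AbRigid.left_comp_apply,
      Subsingleton.elim (α := Spec (CommRingCat.of K)) ((toUnit G).left g) (IsLocalRing.closedPoint K)]
    exact range_subset_wordSet f he

theorem wordSet_mono (f : X ⟶ G) (he : η[G].left (IsLocalRing.closedPoint K) ∈ Set.range f.left) :
    Monotone (wordSet f) :=
  monotone_nat_of_le_succ fun _ => wordSet_succ f he

theorem mul_pt_mem_closure (f : X ⟶ G) {g h : 𝟙_ (Over (Spec (CommRingCat.of K))) ⟶ G} {m n : ℕ}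
    (hg : pt g ∈ closure (wordSet f m)) (hh : pt h ∈ closure (wordSet f n)) :
    pt (g * h) ∈ closure (wordSet f (m + n)) := by
  show (g * h).left _ ∈ _
  rw [Hom.mul_def, AbRigid.left_comp_apply]
  refine mul_mem_closure (fun q => mul_mem_wordSet f q) _ ?_ ?_
  · rw [← AbRigid.left_comp_apply, lift_fst]; exact hg
  · rw [← AbRigid.left_comp_apply, lift_snd]; exact hh

theorem exists_wordSet_of_mem_closure_points (f : X ⟶ G)
    {g : 𝟙_ (Over (Spec (CommRingCat.of K))) ⟶ G}
    (hg : g ∈ Subgroup.closure (Set.range fun a : 𝟙_ (Over (Spec (CommRingCat.of K))) ⟶ X => a ≫ f)) :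
    ∃ m, pt g ∈ wordSet f m := by
  induction hg using Subgroup.closure_induction with
  | mem z hz =>
    obtain ⟨a, rfl⟩ := hz
    exact ⟨1, range_subset_wordSet f ⟨pt a, (pt_comp a f).symm⟩⟩
  | one => exact ⟨0, pt_one (G := G) ▸ one_mem_wordSet f⟩
  | mul a b _ _ ha hb =>
    obtain ⟨m, hm⟩ := ha
    obtain ⟨n, hn⟩ := hb
    refine ⟨m + n, ?_⟩
    show (a * b).left _ ∈ _
    rw [Hom.mul_def, AbRigid.left_comp_apply]
    refine mul_mem_wordSet f _ ?_ ?_
    · rw [← AbRigid.left_comp_apply, lift_fst]; exact hm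
    · rw [← AbRigid.left_comp_apply, lift_snd]; exact hn
  | inv a _ ha =>
    obtain ⟨m, hm⟩ := ha
    exact ⟨m, by show (a⁻¹).left _ ∈ _; rw [Hom.inv_def, AbRigid.left_comp_apply]; exact inv_mem_wordSet f hm⟩

variable [IsAlgClosed K] [LocallyOfFiniteType G.hom] {A B : Over (Spec (CommRingCat.of K))} [GrpObj A] [GrpObj B]
  (a : A ⟶ G) [IsMonHom a] (b : B ⟶ G) [IsMonHom b]

/-- The commutator morphism. -/
abbrev commHom : A ⊗ B ⟶ G := (fst A B ≫ a) * (snd A B ≫ b) * (fst A B ≫ a)⁻¹ * (snd A B ≫ b)⁻¹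

omit [IsAlgClosed K] [LocallyOfFiniteType G.hom] in
theorem comp_commHom {T : Over (Spec (CommRingCat.of K))} (x : T ⟶ A ⊗ B) :
    x ≫ commHom a b = ⁅(x ≫ fst A B) ≫ a, (x ≫ snd A B) ≫ b⁆ := by
  simp [commHom, commutatorElement_def, MonObj.comp_mul, GrpObj.comp_inv]

omit [IsAlgClosed K] [LocallyOfFiniteType G.hom] in
theorem comp_conj {Y : Over (Spec (CommRingCat.of K))} (z : 𝟙_ (Over (Spec (CommRingCat.of K))) ⟶ Y)
    (g : 𝟙_ (Over (Spec (CommRingCat.of K))) ⟶ G) (v : Y ⟶ G) :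
    z ≫ ((toUnit Y ≫ g) * v * (toUnit Y ≫ g)⁻¹) = g * (z ≫ v) * g⁻¹ := by
  rw [MonObj.comp_mul, MonObj.comp_mul, GrpObj.comp_inv, ← Category.assoc z (toUnit Y),
    toUnit_unique (z ≫ toUnit Y) (𝟙 _), Category.id_comp]

omit [IsAlgClosed K] [LocallyOfFiniteType G.hom] [GrpObj G] in
theorem comp_translate {Y : Over (Spec (CommRingCat.of K))} [GrpObj Y]
    (z c : 𝟙_ (Over (Spec (CommRingCat.of K))) ⟶ Y) : z ≫ ((toUnit Y ≫ c) * 𝟙 Y) = c * z := by
  rw [MonObj.comp_mul, ← Category.assoc z (toUnit Y), toUnit_unique (z ≫ toUnit Y) (𝟙 _), Category.id_comp,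
    Category.comp_id]

omit [IsAlgClosed K] [LocallyOfFiniteType G.hom] in
theorem one_mem_range_commHom : η[G].left (IsLocalRing.closedPoint K) ∈ Set.range (commHom a b).left := by
  refine ⟨pt (lift 1 1), ?_⟩
  rw [← pt_one (G := G), ← pt_comp, comp_commHom, lift_fst, lift_snd, MonObj.one_comp, MonObj.one_comp]
  simp [commutatorElement_def]

variable [LocallyOfFiniteType A.hom] [QuasiCompact A.hom] [LocallyOfFiniteType B.hom] [QuasiCompact B.hom]

/-- Commutators of normal subgroups are boundedly generated. -/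
theorem exists_bound_normal (hA : AlgGrp.IsNormalHom a) (hB : AlgGrp.IsNormalHom b) :
    ∃ n, ∀ m, wordSet (commHom a b) m ⊆ closure (wordSet (commHom a b) n) := by
  classical
  let P := 𝟙_ (Over (Spec (CommRingCat.of K)))
  let X := A ⊗ B
  let f : X ⟶ G := commHom a b
  haveI : LocallyOfFiniteType X.hom :=
    inferInstanceAs (LocallyOfFiniteType (Limits.pullback.fst A.hom B.hom ≫ A.hom))
  haveI : QuasiCompact X.hom := inferInstanceAs (QuasiCompact (Limits.pullback.fst A.hom B.hom ≫ A.hom))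
  haveI : IsLocallyNoetherian X.left := LocallyOfFiniteType.isLocallyNoetherian X.hom
  haveI : CompactSpace X.left := QuasiCompact.compactSpace_of_compactSpace X.hom
  haveI : IsNoetherian X.left := ⟨⟩
  set e := η[G].left (IsLocalRing.closedPoint K)
  -- the components through the preimage of the unit
  let U : X.left.Opens := ⟨{x | ∃ x₀ ∈ connectedComponent x, f.left x₀ = e}, isOpen_iff_forall_mem_open.2
    fun x hx => ⟨connectedComponent x, fun y hy => by
      obtain ⟨x₀, hx₀, h⟩ := hx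
      exact ⟨x₀, connectedComponent_eq hy ▸ hx₀, h⟩, isOpen_connectedComponent' x, mem_connectedComponent⟩⟩
  let XU : Over (Spec (CommRingCat.of K)) := Over.mk (U.ι ≫ X.hom)
  let jU : XU ⟶ X := Over.homMk U.ι rfl
  haveI : LocallyOfFiniteType XU.hom := inferInstanceAs (LocallyOfFiniteType (U.ι ≫ X.hom))
  haveI : QuasiCompact XU.hom := inferInstanceAs (QuasiCompact (U.ι ≫ X.hom))
  obtain ⟨n, Z, hZc, -, hZn, hZ⟩ := exists_bound_closure (jU ≫ f) (fun x => by
    obtain ⟨x₀, hx₀, h⟩ := x.2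
    have hsub : connectedComponent (U.ι x) ⊆ Set.range U.ι := by
      rw [Scheme.Opens.range_ι]
      exact fun y hy => ⟨x₀, connectedComponent_eq hy ▸ hx₀, h⟩
    refine ⟨U.ι ⁻¹' connectedComponent (U.ι x), ?_, mem_connectedComponent, ⟨x₀, ⟨x₀, mem_connectedComponent, h⟩⟩, hx₀, ?_⟩
    · rw [← U.ι.isOpenEmbedding.isInducing.isPreconnected_image, Set.image_preimage_eq_of_subset hsub]
      exact isPreconnected_connectedComponent
    · show (jU ≫ f).left _ = e
      rw [AbRigid.left_comp_apply]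
      exact h)
  have hUsub : ∀ m, wordSet (jU ≫ f) m ⊆ wordSet f m := by
    rintro m _ ⟨T, p, x, ε, rfl⟩
    exact ⟨T, p, fun j => x j ≫ jU, ε, by simp [sval]⟩
  have he : e ∈ Set.range f.left := one_mem_range_commHom a b
  -- rational points
  let H : Subgroup (P ⟶ G) := Subgroup.closure (Set.range fun x : P ⟶ XU => x ≫ jU ≫ f)
  have hmemU : ∀ p : P ⟶ X, pt p ∈ U → p ≫ f ∈ H := fun p hp => by
    refine Subgroup.subset_closure ⟨Over.homMk (IsOpenImmersion.lift U.ι p.left ?_) ?_, ?_⟩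
    · rintro _ ⟨z, rfl⟩
      erw [Scheme.Opens.range_ι]
      rw [Subsingleton.elim (α := Spec (CommRingCat.of K)) z (IsLocalRing.closedPoint K)]
      exact hp
    · show IsOpenImmersion.lift U.ι p.left _ ≫ U.ι ≫ X.hom = _
      rw [IsOpenImmersion.lift_fac_assoc]
      exact Over.w p
    · show _ ≫ jU ≫ f = p ≫ f
      rw [← Category.assoc]
      congr 1
      exact Over.OverMorphism.ext (IsOpenImmersion.lift_fac _ _ _)
  have hconn : ∀ (p p' : P ⟶ X) {Y : Over (Spec (CommRingCat.of K))} (v : X ⟶ Y),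
      pt p' ∈ connectedComponent (pt p) → pt (p' ≫ v) ∈ connectedComponent (pt (p ≫ v)) := fun p p' Y v h => by
    rw [pt_comp, pt_comp]
    exact v.left.continuous.image_connectedComponent_subset _ ⟨_, h, rfl⟩
  haveI : H.Normal := by
    refine ⟨fun z hz g => ?_⟩
    induction hz using Subgroup.closure_induction with
    | mem w hw =>
      obtain ⟨x, rfl⟩ := hw
      obtain ⟨a', ha'⟩ := hA X (toUnit X ≫ g) (fst A B)
      obtain ⟨b', hb'⟩ := hB X (toUnit X ≫ g) (snd A B)
      let φ : X ⟶ X := lift a' b'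
      have hφ : φ ≫ f = (toUnit X ≫ g) * f * (toUnit X ≫ g)⁻¹ := by
        rw [comp_commHom, lift_fst, lift_snd, ← ha', ← hb']
        show _ = _ * commHom a b * _
        simp only [commutatorElement_def, commHom]
        group
      have hpt : g * (x ≫ jU ≫ f) * g⁻¹ = ((x ≫ jU) ≫ φ) ≫ f := by
        rw [Category.assoc _ φ, hφ, comp_conj, Category.assoc]
      rw [hpt]
      refine hmemU _ ?_
      obtain ⟨x₀, hx₀, h₀⟩ := (x.left (IsLocalRing.closedPoint K)).2
      show ((x ≫ jU) ≫ φ).left _ ∈ U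
      rw [AbRigid.left_comp_apply, AbRigid.left_comp_apply]
      refine ⟨φ.left x₀, φ.left.continuous.image_connectedComponent_subset _ ⟨x₀, hx₀, rfl⟩, ?_⟩
      rw [← AbRigid.left_comp_apply, hφ]
      let c : G ⟶ G := (toUnit G ≫ g) * 𝟙 G * (toUnit G ≫ g)⁻¹
      have hc : (toUnit X ≫ g) * f * (toUnit X ≫ g)⁻¹ = f ≫ c := by
        simp [c, MonObj.comp_mul, GrpObj.comp_inv]
      rw [hc, AbRigid.left_comp_apply, h₀]
      show c.left e = e
      rw [show e = pt (1 : P ⟶ G) from pt_one.symm]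
      rw [← pt_comp]
      congr 1
      simp [c, MonObj.comp_mul, GrpObj.comp_inv, toUnit_unique (1 ≫ toUnit G) (𝟙 P)]
    | one => simp
    | mul u v _ _ h1 h2 => rw [show g * (u * v) * g⁻¹ = g * u * g⁻¹ * (g * v * g⁻¹) by group]; exact mul_mem h1 h2
    | inv u _ h => rw [show g * u⁻¹ * g⁻¹ = (g * u * g⁻¹)⁻¹ by group]; exact inv_mem h
  let Ak : Subgroup (P ⟶ G) :=
    { carrier := Set.range fun x : P ⟶ A => x ≫ a
      one_mem' := ⟨1, MonObj.one_comp a⟩
      mul_mem' := by rintro _ _ ⟨x, rfl⟩ ⟨y, rfl⟩; exact ⟨x * y, MonObj.mul_comp x y a⟩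
      inv_mem' := by rintro _ ⟨x, rfl⟩; exact ⟨x⁻¹, GrpObj.inv_comp x a⟩ }
  let Bk : Subgroup (P ⟶ G) :=
    { carrier := Set.range fun x : P ⟶ B => x ≫ b
      one_mem' := ⟨1, MonObj.one_comp b⟩
      mul_mem' := by rintro _ _ ⟨x, rfl⟩ ⟨y, rfl⟩; exact ⟨x * y, MonObj.mul_comp x y b⟩
      inv_mem' := by rintro _ ⟨x, rfl⟩; exact ⟨x⁻¹, GrpObj.inv_comp x b⟩ }
  haveI : Ak.Normal := ⟨by rintro _ ⟨x, rfl⟩ g; obtain ⟨x', hx'⟩ := hA P g x; exact ⟨x', hx'.symm⟩⟩
  haveI : Bk.Normal := ⟨by rintro _ ⟨x, rfl⟩ g; obtain ⟨x', hx'⟩ := hB P g x; exact ⟨x', hx'.symm⟩⟩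
  let q := QuotientGroup.mk' H
  haveI := Subgroup.Normal.map ‹Ak.Normal› q (QuotientGroup.mk'_surjective _)
  haveI := Subgroup.Normal.map ‹Bk.Normal› q (QuotientGroup.mk'_surjective _)
  have key : ∀ p p' : P ⟶ X, pt p' ∈ connectedComponent (pt p) → q (p' ≫ f) = q (p ≫ f) := by
    intro p p' h
    set x := p ≫ fst A B
    set y := p ≫ snd A B
    set x' := p' ≫ fst A B
    set y' := p' ≫ snd A B
    have hz : pt (x⁻¹ * x') ∈ connectedComponent (pt (1 : P ⟶ A)) := by
      have h1 := hconn p p' (fst A B ≫ ((toUnit A ≫ x⁻¹) * 𝟙 A)) (by exact h)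
      rw [← Category.assoc, ← Category.assoc, comp_translate, comp_translate, inv_mul_cancel] at h1
      exact h1
    have hw : pt (y⁻¹ * y') ∈ connectedComponent (pt (1 : P ⟶ B)) := by
      have h1 := hconn p p' (snd A B ≫ ((toUnit B ≫ y⁻¹) * 𝟙 B)) (by exact h)
      rw [← Category.assoc, ← Category.assoc, comp_translate, comp_translate, inv_mul_cancel] at h1
      exact h1
    have hzc : ∀ (z : P ⟶ A), pt z ∈ connectedComponent (pt (1 : P ⟶ A)) → ∀ v : P ⟶ B,
        Commute (q (z ≫ a)) (q (v ≫ b)) := by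
      intro z hz v
      rw [← commutatorElement_eq_one_iff_commute, ← map_commutatorElement]
      refine (QuotientGroup.eq_one_iff _).2 ?_
      have := hmemU (lift z v) ⟨pt (lift (1 : P ⟶ A) v), by
        let l : A ⟶ X := lift (𝟙 A) (toUnit A ≫ v)
        have hl : ∀ z : P ⟶ A, z ≫ l = lift z v := fun z => by simp [l, comp_lift, toUnit_unique (z ≫ toUnit A) (𝟙 P), ← Category.assoc]
        rw [← hl, ← hl, pt_comp, pt_comp]
        exact l.left.continuous.image_connectedComponent_subset _ ⟨_, connectedComponent_eq hz ▸ mem_connectedComponent, rfl⟩, by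
        show f.left (pt (lift (1 : P ⟶ A) v)) = e
        rw [← pt_comp, comp_commHom]
        simp [commutatorElement_def, MonObj.one_comp, e, pt_one]⟩
      rwa [comp_commHom, lift_fst, lift_snd] at this
    have hwc : ∀ (w : P ⟶ B), pt w ∈ connectedComponent (pt (1 : P ⟶ B)) → ∀ u : P ⟶ A,
        Commute (q (u ≫ a)) (q (w ≫ b)) := by
      intro w hw u
      rw [← commutatorElement_eq_one_iff_commute, ← map_commutatorElement]
      refine (QuotientGroup.eq_one_iff _).2 ?_
      have := hmemU (lift u w) ⟨pt (lift u (1 : P ⟶ B)), by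
        let l : B ⟶ X := lift (toUnit B ≫ u) (𝟙 B)
        have hl : ∀ z : P ⟶ B, z ≫ l = lift u z := fun z => by simp [l, comp_lift, toUnit_unique (z ≫ toUnit B) (𝟙 P), ← Category.assoc]
        rw [← hl, ← hl, pt_comp, pt_comp]
        exact l.left.continuous.image_connectedComponent_subset _ ⟨_, connectedComponent_eq hw ▸ mem_connectedComponent, rfl⟩, by
        show f.left (pt (lift u (1 : P ⟶ B))) = e
        rw [← pt_comp, comp_commHom]
        simp [commutatorElement_def, MonObj.one_comp, e, pt_one]⟩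
      rwa [comp_commHom, lift_fst, lift_snd] at this
    rw [comp_commHom, comp_commHom, map_commutatorElement, map_commutatorElement]
    show ⁅q (x' ≫ a), q (y' ≫ b)⁆ = ⁅q (x ≫ a), q (y ≫ b)⁆
    have ex : q (x' ≫ a) = q (x ≫ a) * q ((x⁻¹ * x') ≫ a) := by
      rw [← map_mul, ← MonObj.mul_comp, mul_inv_cancel_left]
    have ey : q (y' ≫ b) = q (y ≫ b) * q ((y⁻¹ * y') ≫ b) := by
      rw [← map_mul, ← MonObj.mul_comp, mul_inv_cancel_left]
    rw [ex, ey]
    have c1 := hzc _ hz y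
    have c2 := hzc _ hz (y⁻¹ * y')
    have c3 := hwc _ hw x
    set U' := q (x ≫ a)
    set V := q (y ≫ b)
    set z := q ((x⁻¹ * x') ≫ a)
    set w := q ((y⁻¹ * y') ≫ b)
    simp only [commutatorElement_def, _root_.mul_inv_rev]
    calc U' * z * (V * w) * (z⁻¹ * U'⁻¹) * (w⁻¹ * V⁻¹)
        = U' * (z * V) * w * z⁻¹ * U'⁻¹ * w⁻¹ * V⁻¹ := by group
      _ = U' * (V * z) * w * z⁻¹ * U'⁻¹ * w⁻¹ * V⁻¹ := by rw [c1.eq]
      _ = U' * V * (z * w) * z⁻¹ * U'⁻¹ * w⁻¹ * V⁻¹ := by group
      _ = U' * V * (w * z) * z⁻¹ * U'⁻¹ * w⁻¹ * V⁻¹ := by rw [c2.eq]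
      _ = U' * V * (w * U'⁻¹) * w⁻¹ * V⁻¹ := by group
      _ = U' * V * (U'⁻¹ * w) * w⁻¹ * V⁻¹ := by rw [c3.symm.inv_right.eq]
      _ = U' * V * U'⁻¹ * V⁻¹ := by group
  have hfin : (commSet (Ak.map q) (Bk.map q)).Finite := by
    rw [commSet_map]
    have hfin1 := finite_connectedComponents' (X.left : Type u)
    let F : Set (X.left : Type u) → (P ⟶ G) ⧸ H := fun C =>
      if h : ∃ p : P ⟶ X, connectedComponent (pt p) = C then q (h.choose ≫ f) else 1
    refine (hfin1.image F).subset ?_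
    rintro _ ⟨_, ⟨_, ⟨x, rfl⟩, _, ⟨y, rfl⟩, rfl⟩, rfl⟩
    refine ⟨_, ⟨pt (lift x y), rfl⟩, ?_⟩
    have h : ∃ p : P ⟶ X, connectedComponent (pt p) = connectedComponent (pt (lift x y)) := ⟨_, rfl⟩
    refine (dif_pos h).trans ?_
    rw [← key h.choose (lift x y) (h.choose_spec.symm.le mem_connectedComponent), comp_commHom, lift_fst, lift_snd]
  haveI := finite_commutator_of_finite_commSet (Ak.map q) (Bk.map q) hfin
  haveI : Finite ↥(⁅Ak, Bk⁆.map q) := by rw [Subgroup.map_commutator]; infer_instance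
  have hgen : ⁅Ak, Bk⁆ ≤ Subgroup.closure (Set.range fun x : P ⟶ X => x ≫ f) := by
    rw [Subgroup.commutator_le]
    rintro _ ⟨x, rfl⟩ _ ⟨y, rfl⟩
    exact Subgroup.subset_closure ⟨lift x y, by show lift x y ≫ commHom a b = _; rw [comp_commHom, lift_fst, lift_snd]⟩
  have hrep : ∀ c : ↥(⁅Ak, Bk⁆.map q), ∃ (r : P ⟶ G) (m : ℕ), q r = c ∧ pt r ∈ wordSet f m := fun c => by
    obtain ⟨r, hr, hrc⟩ := c.2
    obtain ⟨m, hm⟩ := exists_wordSet_of_mem_closure_points f (hgen hr)
    exact ⟨r, m, hrc, hm⟩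
  choose r m hr hm using hrep
  haveI := Fintype.ofFinite ↥(⁅Ak, Bk⁆.map q)
  let L := Finset.univ.sup m
  refine ⟨n + L, fun k => ?_⟩
  have hpts : ∀ g ∈ ⁅Ak, Bk⁆, pt g ∈ closure (wordSet f (n + L)) := by
    intro g hg
    let c : ↥(⁅Ak, Bk⁆.map q) := ⟨q g, g, hg, rfl⟩
    have hh : g * (r c)⁻¹ ∈ H := by
      refine (QuotientGroup.eq_one_iff _).1 ?_
      show q _ = 1
      rw [map_mul, map_inv, hr]
      exact mul_inv_cancel _
    obtain ⟨j, hj⟩ := exists_wordSet_of_mem_closure_points (jU ≫ f) hh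
    have h1 : pt (g * (r c)⁻¹) ∈ closure (wordSet f n) := closure_mono (hUsub n) (hZn (hZ j hj))
    have h2 : pt (r c) ∈ closure (wordSet f L) :=
      subset_closure (wordSet_mono f he (Finset.le_sup (Finset.mem_univ c)) (hm c))
    simpa using mul_pt_mem_closure f h1 h2
  rintro _ ⟨T, p, x, ε, rfl⟩
  obtain ⟨W, y, t, hW, hy⟩ := exists_tuple X x
  haveI := hW
  haveI : JacobsonSpace W.left := LocallyOfFiniteType.jacobsonSpace W.hom
  rw [show x = fun j => t ≫ y j from (funext hy).symm, ← comp_sval, AbRigid.left_comp_apply]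
  have hsub : closedPoints W.left ⊆ (sval f y ε).left ⁻¹' closure (wordSet f (n + L)) := by
    intro w hw
    let pw : P ⟶ W := Over.homMk (pointOfClosedPoint W.hom w hw) (pointOfClosedPoint_comp W.hom w hw)
    have hpw : pt pw = w := pointOfClosedPoint_apply W.hom w hw _
    rw [Set.mem_preimage, ← hpw, ← pt_comp, comp_sval]
    refine hpts _ (Subgroup.list_prod_mem _ fun z hz => ?_)
    obtain ⟨j, rfl⟩ := List.mem_ofFn.1 hz
    have hmem : (pw ≫ y j) ≫ f ∈ ⁅Ak, Bk⁆ := by
      show (pw ≫ y j) ≫ commHom a b ∈ _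
      rw [comp_commHom]
      exact Subgroup.commutator_mem_commutator ⟨_, rfl⟩ ⟨_, rfl⟩
    split_ifs
    · exact hmem
    · exact inv_mem hmem
  have huniv : closure (closedPoints W.left) = Set.univ := closure_closedPoints
  exact closure_minimal hsub (isClosed_closure.preimage (sval f y ε).left.continuous) (huniv.ge trivial)

end Groth.Agent.GrpGen20
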