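import Groth.Agent.Lib.AbRigid.GrpTop
import Groth.Agent.Lib.AbRigid.Epi
import Groth.Agent.Lib.FlatH4.GenPt
import Groth.Agent.Lib.H12.Specialization
import Groth.Agent.Lib.GrpImage19.Basic
import Groth.Agent.Lib.AbRigid.Image
import Groth.Agent.Lib.AbRigid.Isogeny

/-!
# Dominant quasi-compact homomorphisms over a field are surjective
-/

set_option autoImplicit false

universe u

open CategoryTheory CategoryTheory.Limits MonoidalCategory CartesianMonoidalCategory MonObj GrpObj AlgebraicGeometry

namespace Groth.Agent.GrpGen20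

variable {k : Type u} [Field k] {H : Over (Spec (CommRingCat.of k))} [GrpObj H]

theorem eq_univ_of_mulStable {R : Set H.left} (hR : AbRigid.MulStable R)
    (hmax : ∀ M : H.left, FlatH4.IsMaxPt M → M ∈ R) : R = Set.univ := by
  refine Set.eq_univ_of_forall fun x => ?_
  let T : Over (Spec (CommRingCat.of k)) := Over.mk (H.left.fromSpecResidueField x ≫ H.hom)
  let a : T ⟶ H := Over.homMk (H.left.fromSpecResidueField x) rfl
  let e : T ⊗ H ≅ T ⊗ H :=
  { hom := lift (fst T H) ((snd T H)⁻¹ * (fst T H ≫ a))
    inv := lift (fst T H) ((fst T H ≫ a) * (snd T H)⁻¹)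
    hom_inv_id := by
      apply CartesianMonoidalCategory.hom_ext
      · simp
      · rw [Category.assoc, lift_snd, MonObj.comp_mul, GrpObj.comp_inv, lift_snd, lift_fst_assoc,
          Category.id_comp]
        group
    inv_hom_id := by
      apply CartesianMonoidalCategory.hom_ext
      · simp
      · rw [Category.assoc, lift_snd, MonObj.comp_mul, GrpObj.comp_inv, lift_snd, lift_fst_assoc,
          Category.id_comp]
        group }
  obtain ⟨p₀, -, -⟩ := AbRigid.exists_point T H (IsLocalRing.closedPoint (H.left.residueField x) : Spec (H.left.residueField x)) x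
  obtain ⟨p, hp, -⟩ := FlatH4.exists_isMaxPt_specializes p₀
  let r : T ⊗ H ⟶ H ⊗ H := lift (snd T H) (fst T H ≫ a)
  have hflat : Flat (snd T H).left := AbRigid.flat_snd_left T H
  haveI : IsIso e.hom.left := ((Over.forget _).mapIso e).isIso_hom
  have h1 : (fst H H).left (r.left p) ∈ R := by
    rw [← AbRigid.left_comp_apply, lift_fst]
    exact hmax _ (FlatH4.IsMaxPt.map_of_flat _ hp)
  have h2 : (AbRigid.quot H).left (r.left p) ∈ R := by
    haveI : Flat (e.hom ≫ snd T H).left := by rw [Over.comp_left]; infer_instance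
    have he : r ≫ AbRigid.quot H = e.hom ≫ snd T H := by
      simp [r, e, AbRigid.quot, MonObj.comp_mul, GrpObj.comp_inv]
    rw [← AbRigid.left_comp_apply, he]
    exact hmax _ (FlatH4.IsMaxPt.map_of_flat _ hp)
  have h3 := AbRigid.snd_mem_of_fst_of_quot hR h1 h2
  rw [← AbRigid.left_comp_apply, lift_snd, AbRigid.left_comp_apply] at h3
  rwa [show a.left ((fst T H).left p) = x from Scheme.fromSpecResidueField_apply _ _] at h3

/-- A quasi-compact dominant homomorphism of groups over a field is surjective. -/
theorem surjective_of_dominant {G : Over (Spec (CommRingCat.of k))} [GrpObj G] (f : G ⟶ H) [IsMonHom f]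
    [QuasiCompact f.left] (hf : DenseRange f.left.base) : Surjective f.left := by
  refine ⟨Set.range_eq_univ.1 (eq_univ_of_mulStable (AbRigid.mulStable_range f) fun M hM => ?_)⟩
  obtain ⟨t, ht⟩ := H12.exists_specializes_of_mem_closure_range f.left M (hf.closure_range ▸ trivial)
  exact ⟨t, hM _ ht⟩

/-- The schematic image of a quasi-compact homomorphism. -/
theorem exists_image {G : Over (Spec (CommRingCat.of k))} [GrpObj G] (f : H ⟶ G) [IsMonHom f] [QuasiCompact f.left] :
    ∃ (H' : Over (Spec (CommRingCat.of k))) (_ : GrpObj H') (i : H' ⟶ G) (f' : H ⟶ H'),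
      IsMonHom i ∧ IsMonHom f' ∧ f' ≫ i = f ∧ IsClosedImmersion i.left ∧
      f'.left.ker = ⊥ ∧ QuasiCompact f'.left ∧ Surjective f'.left := by
  let Z : Over (Spec (CommRingCat.of k)) := Over.mk (f.left.imageι ≫ G.hom)
  let i : Z ⟶ G := Over.homMk f.left.imageι rfl
  let g : H ⟶ Z := Over.homMk f.left.toImage (by
    show f.left.toImage ≫ f.left.imageι ≫ G.hom = H.hom
    rw [Scheme.Hom.toImage_imageι_assoc]
    exact Over.w f)
  have hgi : g ≫ i = f := Over.OverMorphism.ext f.left.toImage_imageι
  haveI : IsClosedImmersion i.left := inferInstanceAs (IsClosedImmersion f.left.imageι)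
  haveI hsd : IsSchemeTheoreticallyDominant g.left := AbRigid.isSchemeTheoreticallyDominant_toImage f.left
  obtain ⟨hZ, hi, hg⟩ := GrpImage19.exists_grpObj f i g hgi
  haveI := hg
  haveI := GrpImage19.quasiCompact_of_factor f i g hgi
  haveI : IsDominant g.left := inferInstance
  exact ⟨Z, hZ, i, g, hi, hg, hgi, inferInstance, hsd.ker_eq_bot, inferInstance,
    surjective_of_dominant g g.left.denseRange⟩

end Groth.Agent.GrpGen20

namespace Groth.Agent.GrpGen20

open CategoryTheory AlgebraicGeometry

/-- The local ring of a reduced scheme at a maximal point is a field. -/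
theorem isField_stalk_of_isMaxPt {X : Scheme.{u}} [IsReduced X] {x : X} (hx : FlatH4.IsMaxPt x) :
    IsField (X.presheaf.stalk x) := by
  haveI : Subsingleton (PrimeSpectrum (X.presheaf.stalk x)) := ⟨fun p q => by
    have h : ∀ r : Spec (X.presheaf.stalk x), X.fromSpecStalk x r = x := fun r => by
      have hr : X.fromSpecStalk x r ∈ Set.range (X.fromSpecStalk x) := ⟨r, rfl⟩
      rw [Scheme.range_fromSpecStalk] at hr
      exact hx _ hr
    exact (X.fromSpecStalk x).isEmbedding.injective ((h p).trans (h q).symm)⟩
  haveI : Ring.KrullDimLE 0 (X.presheaf.stalk x) := Ring.krullDimLE_zero_iff.2 fun P hP => by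
    obtain ⟨m, hm, hle⟩ := Ideal.exists_le_maximal P hP.ne_top
    have e : (⟨P, hP⟩ : PrimeSpectrum (X.presheaf.stalk x)) = ⟨m, hm.isPrime⟩ := Subsingleton.elim _ _
    obtain rfl : P = m := congrArg PrimeSpectrum.asIdeal e
    exact hm
  exact Ring.KrullDimLE.isField_of_isReduced

variable {k : Type u} [Field k] {G H : Over (Spec (CommRingCat.of k))} [GrpObj G] [GrpObj H]

/-- A quasi-compact dominant homomorphism to a reduced group over a field is flat. -/
theorem flat_of_dominant (f : G ⟶ H) [IsMonHom f] [QuasiCompact f.left] (hf : DenseRange f.left.base)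
    [IsReduced H.left] : Flat f.left := by
  haveI := surjective_of_dominant f hf
  obtain ⟨M, hM, -⟩ := FlatH4.exists_isMaxPt_specializes (η[H].left (IsLocalRing.closedPoint k))
  obtain ⟨t, rfl⟩ := f.left.surjective M
  refine AbRigid.flat_of_flat_stalkMap G H f t ?_
  letI := (isField_stalk_of_isMaxPt hM).toField
  letI := (f.left.stalkMap t).hom.toAlgebra
  exact (inferInstance : Module.Flat (H.left.presheaf.stalk (f.left t)) (G.left.presheaf.stalk t))

end Groth.Agent.GrpGen20
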