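import Groth.Agent.Lib.GrpGen20.WordSet
import Groth.Agent.Lib.GrpField.Irreducible
import Mathlib.RingTheory.Ideal.KrullsHeightTheorem
import Mathlib.AlgebraicGeometry.Noetherian

/-!
# Bounded generation over an algebraically closed field
-/

set_option autoImplicit false
set_option backward.isDefEq.respectTransparency false
set_option backward.isDefEq.respectTransparency.types false

universe u

open CategoryTheory CategoryTheory.Limits MonoidalCategory CartesianMonoidalCategory MonObj GrpObj AlgebraicGeometry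

namespace Groth.Agent.GrpGen20

variable {K : Type u} [Field K] {G : Over (Spec (CommRingCat.of K))} [GrpObj G]

/-- The product of two sets of points. -/
def prodSet (A B : Set G.left) : Set G.left :=
  μ[G].left '' {q | (fst G G).left q ∈ A ∧ (snd G G).left q ∈ B}

theorem isIrreducible_prodSet [IsAlgClosed K] {A B : Set G.left} (hA : IsClosed A) (hAi : IsIrreducible A)
    (hB : IsClosed B) (hBi : IsIrreducible B) : IsIrreducible (prodSet A B) := by
  obtain ⟨Z₁, i₁, hc₁, hZ₁, hr₁⟩ := GrpField.exists_closedImmersion_range hA hAi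
  obtain ⟨Z₂, i₂, hc₂, hZ₂, hr₂⟩ := GrpField.exists_closedImmersion_range hB hBi
  let B₁ := Over.mk (i₁ ≫ G.hom)
  let B₂ := Over.mk (i₂ ≫ G.hom)
  let j₁ : B₁ ⟶ G := Over.homMk i₁ rfl
  let j₂ : B₂ ⟶ G := Over.homMk i₂ rfl
  haveI := GrpField.geometricallyIrreducible_of_isAlgClosed (i₂ ≫ G.hom)
  haveI : IrreducibleSpace (B₁ ⊗ B₂).left := inferInstanceAs (IrreducibleSpace ↥(pullback (i₁ ≫ G.hom) (i₂ ≫ G.hom)))
  have hr : Set.range (j₁ ⊗ₘ j₂).left = {q | (fst G G).left q ∈ A ∧ (snd G G).left q ∈ B} := by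
    rw [Over.tensorHom_left]
    erw [Scheme.Pullback.range_map]
    rw [← hr₁, ← hr₂]
    rfl
  rw [prodSet, ← hr, ← Set.range_comp, ← Set.image_univ]
  exact (IrreducibleSpace.isIrreducible_univ _).image _
    (μ[G].left.continuous.comp (j₁ ⊗ₘ j₂).left.continuous).continuousOn

theorem one_mem_prodSet_of_inv {A B : Set G.left} {g : G.left} (hA : ι[G].left g ∈ A) (hB : g ∈ B) :
    η[G].left (IsLocalRing.closedPoint K) ∈ prodSet A B := by
  refine ⟨(lift ι[G] (𝟙 G)).left g, ⟨?_, ?_⟩, ?_⟩
  · rw [← AbRigid.left_comp_apply, lift_fst]; exact hA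
  · rw [← AbRigid.left_comp_apply, lift_snd]; exact hB
  · rw [← AbRigid.left_comp_apply, GrpObj.left_inv, AbRigid.left_comp_apply]
    exact congrArg _ (Subsingleton.elim (α := Spec (CommRingCat.of K)) _ _)

theorem subset_prodSet_left {A B : Set G.left} (hB : η[G].left (IsLocalRing.closedPoint K) ∈ B) :
    A ⊆ prodSet A B := by
  intro g hg
  refine ⟨(lift (𝟙 G) (toUnit G ≫ η[G])).left g, ⟨?_, ?_⟩, ?_⟩
  · rw [← AbRigid.left_comp_apply, lift_fst]; exact hg
  · rw [← AbRigid.left_comp_apply, lift_snd, AbRigid.left_comp_apply,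
      Subsingleton.elim (α := Spec (CommRingCat.of K)) ((toUnit G).left g) (IsLocalRing.closedPoint K)]
    exact hB
  · rw [← AbRigid.left_comp_apply, ← Hom.mul_def, ← Hom.one_def, _root_.mul_one]
    rfl

theorem subset_prodSet_right {A B : Set G.left} (hA : η[G].left (IsLocalRing.closedPoint K) ∈ A) :
    B ⊆ prodSet A B := by
  intro g hg
  refine ⟨(lift (toUnit G ≫ η[G]) (𝟙 G)).left g, ⟨?_, ?_⟩, ?_⟩
  · rw [← AbRigid.left_comp_apply, lift_fst, AbRigid.left_comp_apply,
      Subsingleton.elim (α := Spec (CommRingCat.of K)) ((toUnit G).left g) (IsLocalRing.closedPoint K)]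
    exact hA
  · rw [← AbRigid.left_comp_apply, lift_snd]; exact hg
  · rw [← AbRigid.left_comp_apply, ← Hom.mul_def, ← Hom.one_def, _root_.one_mul]
    rfl

theorem mem_prodSet_of_translate {A B C : Set G.left} {g y : G.left} (hA : g ∈ A)
    (hC : ∀ q : (G ⊗ G).left, (fst G G).left q = ι[G].left g → (snd G G).left q = y → μ[G].left q ∈ B) :
    y ∈ prodSet A B := by
  obtain ⟨p, hp1, hp2⟩ := AbRigid.exists_point G G g y
  refine ⟨(lift (fst G G) ((fst G G)⁻¹ * snd G G)).left p, ⟨?_, ?_⟩, ?_⟩
  · rw [← AbRigid.left_comp_apply, lift_fst, hp1]; exact hA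
  · rw [← AbRigid.left_comp_apply, lift_snd, Hom.mul_def, AbRigid.left_comp_apply]
    refine hC _ ?_ ?_
    · rw [← AbRigid.left_comp_apply, lift_fst, Hom.inv_def, AbRigid.left_comp_apply, hp1]
    · rw [← AbRigid.left_comp_apply, lift_snd, hp2]
  · rw [← AbRigid.left_comp_apply, ← Hom.mul_def, mul_inv_cancel_left, hp2]

variable [IsAlgClosed K] [LocallyOfFiniteType G.hom] {X : Over (Spec (CommRingCat.of K))}
  [LocallyOfFiniteType X.hom] [QuasiCompact X.hom] (f : X ⟶ G)

/-- A maximal irreducible closed set through the unit inside the closure of some word set. -/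
theorem exists_maximal_irreducible :
    ∃ (n : ℕ) (Z : Set G.left), IsClosed Z ∧ IsIrreducible Z ∧ η[G].left (IsLocalRing.closedPoint K) ∈ Z ∧
      Z ⊆ closure (wordSet f n) ∧
      ∀ (m : ℕ) (Z' : Set G.left), IsIrreducible Z' → Z ⊆ Z' → Z' ⊆ closure (wordSet f m) → Z' ⊆ Z := by
  classical
  set e := η[G].left (IsLocalRing.closedPoint K)
  haveI : IsLocallyNoetherian G.left := LocallyOfFiniteType.isLocallyNoetherian G.hom
  let R := G.left.presheaf.stalk e
  haveI : IsNoetherianRing R := inferInstance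
  let Q : Set (Spec R) := {P | ∃ n, G.left.fromSpecStalk e P ∈ closure (wordSet f n)}
  have hQ : Q.Nonempty := ⟨IsLocalRing.closedPoint R, 0,
    by rw [Scheme.fromSpecStalk_closedPoint]; exact subset_closure (one_mem_wordSet f)⟩
  obtain ⟨_, ⟨P, ⟨n, hn⟩, rfl⟩, hmin'⟩ := (wellFounded_lt (α := ℕ∞)).has_min
    ((fun P : Spec R => Ideal.height P.asIdeal) '' Q) (hQ.image _)
  have hmin : ∀ P' ∈ Q, ¬ Ideal.height P'.asIdeal < Ideal.height P.asIdeal :=
    fun P' hP' => hmin' _ ⟨P', hP', rfl⟩
  set ζ := G.left.fromSpecStalk e P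
  refine ⟨n, closure {ζ}, isClosed_closure, isIrreducible_singleton.closure,
    specializes_iff_mem_closure.1 ((Scheme.range_fromSpecStalk (X := G.left) (x := e)).le ⟨P, rfl⟩),
    closure_minimal (Set.singleton_subset_iff.2 hn) isClosed_closure, fun m Z' hZ' hsub hm => ?_⟩
  have hg := hZ'.isGenericPoint_genericPoint_closure
  set ζ' := hZ'.genericPoint
  have hζζ' : ζ' ⤳ ζ := hg.specializes (subset_closure (hsub (subset_closure rfl)))
  have he' : ζ' ⤳ e := hζζ'.trans ((Scheme.range_fromSpecStalk (X := G.left) (x := e)).le ⟨P, rfl⟩)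
  obtain ⟨P', hP'⟩ := (Scheme.range_fromSpecStalk (X := G.left) (x := e)).ge he'
  have hle : P'.asIdeal ≤ P.asIdeal := by
    refine (PrimeSpectrum.le_iff_specializes P' P).mpr ?_
    rw [← (G.left.fromSpecStalk e).isEmbedding.isInducing.specializes_iff]
    exact hP'.symm ▸ hζζ'
  have hP'Q : P' ∈ Q := ⟨m, by
    rw [hP']
    exact closure_minimal hm isClosed_closure (hg.mem)⟩
  have heq : P' = P := by
    by_contra hne
    exact hmin P' hP'Q (Ideal.height_strict_mono_of_isPrime (lt_of_le_of_ne hle fun h => hne (PrimeSpectrum.ext h)))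
  intro z hz
  have := hg.specializes (subset_closure hz)
  rw [show ζ' = ζ by rw [← hP', heq]] at this
  exact specializes_iff_mem_closure.1 this

/-- The word sets lie in the closure of one of them when every component of the source meets the unit. -/
theorem exists_bound_closure
    (hC : ∀ x : X.left, ∃ C : Set X.left, _root_.IsPreconnected C ∧ x ∈ C ∧
      ∃ x₀ ∈ C, f.left x₀ = η[G].left (IsLocalRing.closedPoint K)) :
    ∃ (n : ℕ) (Z : Set G.left), IsClosed Z ∧ IsIrreducible Z ∧ Z ⊆ closure (wordSet f n) ∧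
      ∀ m, wordSet f m ⊆ Z := by
  classical
  obtain ⟨n, Z, hZc, hZi, heZ, hZn, hmax⟩ := exists_maximal_irreducible f
  set e := η[G].left (IsLocalRing.closedPoint K)
  have hprod : ∀ {m : ℕ} {A : Set G.left}, IsClosed A → IsIrreducible A → e ∈ A → A ⊆ closure (wordSet f m) →
      A ⊆ Z ∧ prodSet Z A ⊆ Z := by
    intro m A hA hAi heA hAm
    have h := hmax (n + m) _ (isIrreducible_prodSet hZc hZi hA hAi) (subset_prodSet_left heA) (by
      rintro _ ⟨q, ⟨hq1, hq2⟩, rfl⟩
      exact mul_mem_closure (fun q' => mul_mem_wordSet f q') q (hZn hq1) (hAm hq2))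
    exact ⟨(subset_prodSet_right heZ).trans h, h⟩
  have hZZ : prodSet Z Z ⊆ Z := (hprod hZc hZi heZ hZn).2
  have hmapcl : ∀ (m : ℕ) (x : G.left), x ∈ closure (wordSet f m) → ι[G].left x ∈ closure (wordSet f m) :=
    fun m x hx => map_mem_closure ι[G].left.continuous hx fun _ hy => inv_mem_wordSet f hy
  have hinv : ∀ x ∈ Z, ι[G].left x ∈ Z := by
    intro x hx
    have h := hprod (m := n) (A := closure (ι[G].left '' Z)) isClosed_closure
      (hZi.image _ ι[G].left.continuous.continuousOn).closure (subset_closure ⟨e, heZ, by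
        rw [← AbRigid.left_comp_apply, ← Hom.inv_def]
        show ((η[G])⁻¹).left _ = (η[G]).left _
        rw [show η[G] = (1 : 𝟙_ (Over (Spec (CommRingCat.of K))) ⟶ G) by
          rw [Hom.one_def, toUnit_unique (toUnit _) (𝟙 _), Category.id_comp], inv_one]⟩)
      (closure_minimal (by rintro _ ⟨y, hy, rfl⟩; exact hmapcl n y (hZn hy)) isClosed_closure)
    exact h.1 (subset_closure ⟨x, hx, rfl⟩)
  have hclosed : IsClosed (f.left ⁻¹' Z) := hZc.preimage f.left.continuous
  have hcomp : ∀ D ∈ irreducibleComponents X.left, (D ∩ f.left ⁻¹' Z).Nonempty → D ⊆ f.left ⁻¹' Z := by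
    rintro D hD ⟨c, hcD, hc⟩ y hy
    have hA : IsIrreducible (closure (f.left '' D)) := (hD.1.image _ f.left.continuous.continuousOn).closure
    have hA1 : closure (f.left '' D) ⊆ closure (wordSet f 1) :=
      closure_mono ((Set.image_subset_range _ _).trans (range_subset_wordSet f))
    have hB1 : closure {ι[G].left (f.left c)} ⊆ closure (wordSet f 1) :=
      closure_mono (Set.singleton_subset_iff.2 (inv_mem_wordSet f (range_subset_wordSet f ⟨c, rfl⟩)))
    let P := prodSet (closure {ι[G].left (f.left c)}) (closure (f.left '' D))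
    have hP : closure P ⊆ Z := (hprod (m := 1 + 1) isClosed_closure
      (isIrreducible_prodSet isClosed_closure isIrreducible_singleton.closure isClosed_closure hA).closure
      (subset_closure (one_mem_prodSet_of_inv (g := f.left c) (subset_closure rfl) (subset_closure ⟨c, hcD, rfl⟩)))
      (closure_minimal (by
        rintro _ ⟨q, ⟨hq1, hq2⟩, rfl⟩
        exact mul_mem_closure (fun q' => mul_mem_wordSet f q') q (hB1 hq1) (hA1 hq2)) isClosed_closure)).1
    exact hZZ (mem_prodSet_of_translate (C := Z) hc fun q h1 h2 =>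
      hP (subset_closure ⟨q, ⟨h1 ▸ subset_closure rfl, h2 ▸ subset_closure ⟨y, hy, rfl⟩⟩, rfl⟩))
  have hfin : (irreducibleComponents X.left).Finite := by
    haveI : IsLocallyNoetherian X.left := LocallyOfFiniteType.isLocallyNoetherian X.hom
    haveI : CompactSpace X.left := QuasiCompact.compactSpace_of_compactSpace X.hom
    haveI : IsNoetherian X.left := ⟨⟩
    exact TopologicalSpace.NoetherianSpace.finite_irreducibleComponents
  have hopen : IsOpen (f.left ⁻¹' Z) := by
    have : (f.left ⁻¹' Z)ᶜ = ⋃ D ∈ {D ∈ irreducibleComponents X.left | ¬ (D ∩ f.left ⁻¹' Z).Nonempty}, D := by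
      ext y
      simp only [Set.mem_compl_iff, Set.mem_iUnion, Set.mem_ofPred_eq, exists_prop]
      constructor
      · intro hy
        exact ⟨irreducibleComponent y, ⟨irreducibleComponent_mem_irreducibleComponents y,
          fun h => hy (hcomp _ (irreducibleComponent_mem_irreducibleComponents y) h mem_irreducibleComponent)⟩,
          mem_irreducibleComponent⟩
      · rintro ⟨D, ⟨-, hD⟩, hyD⟩ hy
        exact hD ⟨y, hyD, hy⟩
    rw [← isClosed_compl_iff, this]
    exact (hfin.subset fun D hD => hD.1).isClosed_biUnion fun D hD => isClosed_of_mem_irreducibleComponents D hD.1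
  have hrange : Set.range f.left ⊆ Z := by
    rintro _ ⟨x, rfl⟩
    obtain ⟨C, hCp, hxC, x₀, hx₀C, hx₀⟩ := hC x
    exact hCp.subset_isClopen ⟨hclosed, hopen⟩ ⟨x₀, hx₀C, by rw [Set.mem_preimage, hx₀]; exact heZ⟩ hxC
  refine ⟨n, Z, hZc, hZi, hZn, fun m => ?_⟩
  rintro _ ⟨T, p, x, ε, rfl⟩
  induction m generalizing p with
  | zero =>
    rw [show sval f x ε = toUnit T ≫ η[G] by simp [sval, Hom.one_def], AbRigid.left_comp_apply,
      Subsingleton.elim (α := Spec (CommRingCat.of K)) ((toUnit T).left p) (IsLocalRing.closedPoint K)]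
    exact heZ
  | succ m ih =>
    have hh := ih p (fun j => x j.succ) (fun j => ε j.succ)
    have hv : sval f x ε = (if ε 0 then x 0 ≫ f else (x 0 ≫ f)⁻¹) * sval f (fun j => x j.succ) (fun j => ε j.succ) := by
      simp [sval, List.ofFn_succ]
    rw [hv, Hom.mul_def, AbRigid.left_comp_apply]
    refine hZZ ⟨_, ⟨?_, ?_⟩, rfl⟩
    · rw [← AbRigid.left_comp_apply, lift_fst]
      split_ifs
      · exact hrange ⟨(x 0).left p, by rw [AbRigid.left_comp_apply]⟩
      · rw [Hom.inv_def, AbRigid.left_comp_apply]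
        exact hinv _ (hrange ⟨(x 0).left p, by rw [AbRigid.left_comp_apply]⟩)
    · rw [← AbRigid.left_comp_apply, lift_snd]
      exact hh

end Groth.Agent.GrpGen20
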