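import Groth.Agent.Lib.GrpGen20.Bounded
import Groth.Agent.Lib.GrpGen20.BaseChange
import Groth.Agent.Lib.GrpGen20.DomSurj
import Groth.Agent.Lib.H12.Specialization
import Mathlib.FieldTheory.IsAlgClosed.AlgebraicClosure

/-!
# Bounded generation over an arbitrary field
-/

set_option autoImplicit false
set_option backward.isDefEq.respectTransparency false
set_option backward.isDefEq.respectTransparency.types false

universe u

open CategoryTheory CategoryTheory.Limits MonoidalCategory CartesianMonoidalCategory MonObj GrpObj AlgebraicGeometry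

noncomputable section

namespace Groth.Agent.GrpGen20

variable {k : Type u} [Field k] {G X : Over (Spec (CommRingCat.of k))} [GrpObj G] (f : X ⟶ G)

section BC

variable {K : Type u} [Field K] (σ : Spec (CommRingCat.of K) ⟶ Spec (CommRingCat.of k))

theorem fl_one {T : Over (Spec (CommRingCat.of K))} :
    DiagGL.fl σ G (1 : T ⟶ Red.bc σ G) = 1 := by
  have h := DiagGL.fl_mul σ G (1 : T ⟶ Red.bc σ G) 1
  rw [_root_.one_mul] at h
  exact left_eq_mul.1 h

theorem fl_inv {T : Over (Spec (CommRingCat.of K))} (a : T ⟶ Red.bc σ G) :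
    DiagGL.fl σ G a⁻¹ = (DiagGL.fl σ G a)⁻¹ := by
  refine eq_inv_of_mul_eq_one_left ?_
  rw [← DiagGL.fl_mul, inv_mul_cancel, fl_one]

omit [GrpObj G] in
theorem fl_left {T : Over (Spec (CommRingCat.of K))} (a : T ⟶ Red.bc σ G) :
    (DiagGL.fl σ G a).left = a.left ≫ Limits.pullback.fst G.hom σ := by
  simp [DiagGL.fl, Adjunction.homEquiv_counit, Over.mapPullbackAdj_counit_app]

theorem image_wordSet_bc_subset (n : ℕ) :
    (Limits.pullback.fst G.hom σ) '' wordSet ((Over.pullback σ).map f) n ⊆ wordSet f n := by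
  rintro _ ⟨_, ⟨T, p, x, ε, rfl⟩, rfl⟩
  refine ⟨(Over.map σ).obj T, p, fun j => DiagGL.fl σ X (x j), ε, ?_⟩
  suffices h : DiagGL.fl σ G (sval ((Over.pullback σ).map f) x ε) = sval f (fun j => DiagGL.fl σ X (x j)) ε by
    rw [← h, fl_left, Scheme.Hom.comp_apply]
    rfl
  have hnat : ∀ a : T ⟶ Red.bc σ X, DiagGL.fl σ G (a ≫ (Over.pullback σ).map f) = DiagGL.fl σ X a ≫ f :=
    fun a => Adjunction.homEquiv_naturality_right_symm _ _ _
  clear p
  induction n with
  | zero => simp [sval, fl_one]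
  | succ n ih =>
    have hh := ih (fun j => x j.succ) (fun j => ε j.succ)
    simp only [sval, List.ofFn_succ, List.prod_cons] at hh ⊢
    rw [DiagGL.fl_mul, hh]
    congr 1
    split_ifs
    · exact hnat _
    · rw [fl_inv, hnat]

theorem toBC_sval {T : Over (Spec (CommRingCat.of k))} (s : T ⟶ Over.mk σ) {n : ℕ} (x : Fin n → (T ⟶ X))
    (ε : Fin n → Bool) :
    sval ((Over.pullback σ).map f) (fun j => toBC σ (x j) s) ε = toBC σ (sval f x ε) s := by
  induction n with
  | zero => simp [sval, toBC_one]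
  | succ n ih =>
    have hh := ih (fun j => x j.succ) (fun j => ε j.succ)
    simp only [sval, List.ofFn_succ, List.prod_cons] at hh ⊢
    rw [hh, toBC_mul]
    congr 1
    split_ifs
    · exact toBC_comp_map σ f _ s
    · rw [toBC_inv, ← toBC_comp_map σ f _ s]

theorem wordSet_subset_image_bc (n : ℕ) :
    wordSet f n ⊆ (Limits.pullback.fst G.hom σ) '' wordSet ((Over.pullback σ).map f) n := by
  rintro _ ⟨T, p, x, ε, rfl⟩
  let Sk : Over (Spec (CommRingCat.of k)) := Over.mk σ
  obtain ⟨q, hq, -⟩ := AbRigid.exists_point T Sk p (IsLocalRing.closedPoint K)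
  refine ⟨_, ⟨_, q, fun j => toBC σ (fst T Sk ≫ x j) (snd T Sk), ε, rfl⟩, ?_⟩
  rw [toBC_sval, ← comp_sval]
  refine (Scheme.Hom.comp_apply _ _ _).symm.trans ?_
  rw [show (toBC σ (fst T Sk ≫ sval f x ε) (snd T Sk)).left ≫ Limits.pullback.fst G.hom σ =
    (fst T Sk ≫ sval f x ε).left from congrArg CommaMorphism.left (lift_fst (fst T Sk ≫ sval f x ε) (snd T Sk))]
  show (fst T Sk ≫ sval f x ε).left q = _
  rw [AbRigid.left_comp_apply, hq]

end BC

/-- The unit point of a base change. -/
theorem eq_one_of_fst_eq {K : Type u} [Field K] (σ : Spec (CommRingCat.of K) ⟶ Spec (CommRingCat.of k))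
    {z : ↥(Red.bc σ G).left} (h : Limits.pullback.fst G.hom σ z = η[G].left (IsLocalRing.closedPoint k)) :
    z = η[Red.bc σ G].left (IsLocalRing.closedPoint K) := by
  let q : Red.bc σ (𝟙_ (Over (Spec (CommRingCat.of k)))) ⟶ Red.bc σ G := (Over.pullback σ).map η[G]
  have hq : η[Red.bc σ G] = Functor.LaxMonoidal.ε (Over.pullback σ) ≫ q := rfl
  have hr : z ∈ Set.range q.left := by
    have hq' : q.left = Limits.pullback.map (𝟙_ (Over (Spec (CommRingCat.of k)))).hom σ G.hom σ η[G].left (𝟙 _) (𝟙 _)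
        (by simp [Over.w η[G]]) (by simp) := by
      apply Limits.pullback.hom_ext <;> simp [q]
    rw [hq']
    erw [Scheme.Pullback.range_map]
    exact ⟨⟨IsLocalRing.closedPoint k, h.symm⟩, ⟨_, rfl⟩⟩
  obtain ⟨w, rfl⟩ := hr
  haveI : Subsingleton ↥(Red.bc σ (𝟙_ (Over (Spec (CommRingCat.of k))))).left := by
    haveI : IsIso (Limits.pullback.snd (𝟙_ (Over (Spec (CommRingCat.of k)))).hom σ) :=
      inferInstanceAs (IsIso (Limits.pullback.snd (𝟙 (Spec (CommRingCat.of k))) σ))
    exact (Limits.pullback.snd (𝟙_ (Over (Spec (CommRingCat.of k)))).hom σ).homeomorph.injective.subsingleton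
  rw [hq, AbRigid.left_comp_apply]
  exact congrArg _ (Subsingleton.elim _ _)

variable [LocallyOfFiniteType G.hom] [LocallyOfFiniteType X.hom] [QuasiCompact X.hom]

/-- The generated subgroup consists of the points under words of a bounded length. -/
theorem exists_bound_field {K : Type u} [Field K] [IsAlgClosed K]
    (σ : Spec (CommRingCat.of K) ⟶ Spec (CommRingCat.of k))
    (hC : ∀ x : ↥(Red.bc σ X).left, ∃ C : Set ↥(Red.bc σ X).left, _root_.IsPreconnected C ∧ x ∈ C ∧
      ∃ x₀ ∈ C, f.left (Limits.pullback.fst X.hom σ x₀) = η[G].left (IsLocalRing.closedPoint k)) :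
    ∃ (n : ℕ) (W : Set G.left), IsIrreducible W ∧ W ⊆ closure (wordSet f n) ∧
      ∀ m, wordSet f m ⊆ closure W := by
  haveI : LocallyOfFiniteType (Red.bc σ G).hom := inferInstanceAs (LocallyOfFiniteType (Limits.pullback.snd G.hom σ))
  haveI : LocallyOfFiniteType (Red.bc σ X).hom := inferInstanceAs (LocallyOfFiniteType (Limits.pullback.snd X.hom σ))
  haveI : QuasiCompact (Red.bc σ X).hom := inferInstanceAs (QuasiCompact (Limits.pullback.snd X.hom σ))
  have hC' : ∀ x : ↥(Red.bc σ X).left, ∃ C : Set ↥(Red.bc σ X).left, _root_.IsPreconnected C ∧ x ∈ C ∧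
      ∃ x₀ ∈ C, ((Over.pullback σ).map f).left x₀ = η[Red.bc σ G].left (IsLocalRing.closedPoint K) := by
    intro x
    obtain ⟨C, hCp, hxC, x₀, hx₀, hfx⟩ := hC x
    refine ⟨C, hCp, hxC, x₀, hx₀, eq_one_of_fst_eq σ ?_⟩
    refine ((Scheme.Hom.comp_apply _ _ _).symm.trans ?_).trans hfx
    rw [← Scheme.Hom.comp_apply]
    congr 2
    simp
  obtain ⟨n, Z, hZc, hZi, hZn, hZ⟩ := exists_bound_closure ((Over.pullback σ).map f) hC'
  let π := Limits.pullback.fst G.hom σ
  refine ⟨n, π '' Z, hZi.image _ π.continuous.continuousOn, ?_, fun m => ?_⟩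
  · refine (Set.image_mono hZn).trans ((image_closure_subset_closure_image π.continuous).trans ?_)
    exact closure_mono (image_wordSet_bc_subset f σ n)
  · exact (wordSet_subset_image_bc f σ m).trans ((Set.image_mono (hZ m)).trans subset_closure)

omit [GrpObj G] [LocallyOfFiniteType G.hom] [LocallyOfFiniteType X.hom] [QuasiCompact X.hom] in
theorem exists_maxPt_pair {H : Over (Spec (CommRingCat.of k))} [GrpObj H] (x : H.left) :
    ∃ q : (H ⊗ H).left, FlatH4.IsMaxPt ((fst H H).left q) ∧ FlatH4.IsMaxPt ((snd H H).left q) ∧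
      μ[H].left q = x := by
  let T : Over (Spec (CommRingCat.of k)) := Over.mk (H.left.fromSpecResidueField x ≫ H.hom)
  let a : T ⟶ H := Over.homMk (H.left.fromSpecResidueField x) rfl
  let e : T ⊗ H ≅ T ⊗ H :=
  { hom := lift (fst T H) ((snd T H)⁻¹ * (fst T H ≫ a))
    inv := lift (fst T H) ((fst T H ≫ a) * (snd T H)⁻¹)
    hom_inv_id := by
      apply CartesianMonoidalCategory.hom_ext
      · simp
      · rw [Category.assoc, lift_snd, MonObj.comp_mul, GrpObj.comp_inv, lift_snd, lift_fst_assoc,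
          Category.id_comp]
        group
    inv_hom_id := by
      apply CartesianMonoidalCategory.hom_ext
      · simp
      · rw [Category.assoc, lift_snd, MonObj.comp_mul, GrpObj.comp_inv, lift_snd, lift_fst_assoc,
          Category.id_comp]
        group }
  obtain ⟨p₀, -, -⟩ := AbRigid.exists_point T H (IsLocalRing.closedPoint (H.left.residueField x) : Spec (H.left.residueField x)) x
  obtain ⟨p, hp, -⟩ := FlatH4.exists_isMaxPt_specializes p₀
  let r : T ⊗ H ⟶ H ⊗ H := lift (snd T H) ((snd T H)⁻¹ * (fst T H ≫ a))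
  have hflat : Flat (snd T H).left := AbRigid.flat_snd_left T H
  haveI : IsIso e.hom.left := ((Over.forget _).mapIso e).isIso_hom
  refine ⟨r.left p, ?_, ?_, ?_⟩
  · rw [← AbRigid.left_comp_apply, lift_fst]
    exact FlatH4.IsMaxPt.map_of_flat _ hp
  · haveI : Flat (e.hom ≫ snd T H).left := by rw [Over.comp_left]; infer_instance
    have he : r ≫ snd H H = e.hom ≫ snd T H := by simp [r, e]
    rw [← AbRigid.left_comp_apply, he]
    exact FlatH4.IsMaxPt.map_of_flat _ hp
  · rw [← AbRigid.left_comp_apply, ← Hom.mul_def, mul_inv_cancel_left, AbRigid.left_comp_apply]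
    exact Scheme.fromSpecResidueField_apply _ _

/-- A closed subgroup containing `f` inside the closure of the words of length `n` is the set of
points under words of length `2 n`. -/
theorem range_eq_wordSet {Γ : Over (Spec (CommRingCat.of k))} [GrpObj Γ] (i : Γ ⟶ G) [IsMonHom i]
    [IsClosedImmersion i.left] (hf : ∃ f' : X ⟶ Γ, f' ≫ i = f) (n : ℕ)
    (hcl : Set.range i.left ⊆ closure (wordSet f n)) :
    Set.range i.left = wordSet f (n + n) := by
  refine Set.Subset.antisymm ?_ (wordSet_subset_range f i hf _)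
  have hmax : ∀ M : Γ.left, FlatH4.IsMaxPt M → i.left M ∈ wordSet f n := by
    intro M hM
    have h1 : i.left M ∈ closure (⋃ ε : Fin n → Bool, {g | ∃ (T : Over (Spec (CommRingCat.of k))) (p : T.left) (x : Fin n → (T ⟶ X)),
        (sval f x ε).left p = g}) := by
      refine closure_mono ?_ (hcl ⟨M, rfl⟩)
      rintro g ⟨T, p, x, ε, h⟩
      exact Set.mem_iUnion.2 ⟨ε, T, p, x, h⟩
    rw [closure_iUnion_of_finite] at h1
    obtain ⟨ε, hε⟩ := Set.mem_iUnion.1 h1
    obtain ⟨W, y, hW, hWqc, hy⟩ : ∃ (W : Over (Spec (CommRingCat.of k))) (y : Fin n → (W ⟶ X)),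
        LocallyOfFiniteType W.hom ∧ QuasiCompact W.hom ∧
        ∀ (T : Over (Spec (CommRingCat.of k))) (x : Fin n → (T ⟶ X)), ∃ t : T ⟶ W, ∀ j, t ≫ y j = x j := by
      clear! Γ ε
      induction n with
      | zero =>
        exact ⟨𝟙_ _, Fin.elim0, inferInstanceAs (LocallyOfFiniteType (𝟙 _)), inferInstanceAs (QuasiCompact (𝟙 _)),
          fun T x => ⟨toUnit T, fun j => j.elim0⟩⟩
      | succ n ih =>
        obtain ⟨W, y, hW, hW', hy⟩ := ih
        refine ⟨X ⊗ W, Fin.cons (fst X W) (fun j => snd X W ≫ y j),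
          inferInstanceAs (LocallyOfFiniteType (Limits.pullback.fst X.hom W.hom ≫ X.hom)),
          inferInstanceAs (QuasiCompact (Limits.pullback.fst X.hom W.hom ≫ X.hom)), fun T x => ?_⟩
        obtain ⟨t, ht⟩ := hy T (fun j => x j.succ)
        refine ⟨lift (x 0) t, Fin.cases (by simp) (fun i => by simp [ht i])⟩
    obtain ⟨f', hf'⟩ := hf
    let v := (sval f y ε).left
    haveI := AbRigid.isSeparated_of_grpObj G
    haveI : QuasiCompact v := by
      haveI : QuasiCompact (v ≫ G.hom) := by rw [Over.w]; exact hWqc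
      exact QuasiCompact.of_comp v G.hom
    have hsub : {g | ∃ (T : Over (Spec (CommRingCat.of k))) (p : T.left) (x : Fin n → (T ⟶ X)),
        (sval f x ε).left p = g} ⊆ Set.range v := by
      rintro _ ⟨T, p, x, rfl⟩
      obtain ⟨t, ht⟩ := hy T x
      exact ⟨t.left p, by rw [← AbRigid.left_comp_apply, comp_sval, funext ht]⟩
    obtain ⟨t, ht⟩ := H12.exists_specializes_of_mem_closure_range v _ (closure_mono hsub hε)
    obtain ⟨z, hz⟩ := wordSet_subset_range f i ⟨f', hf'⟩ n ⟨W, t, y, ε, rfl⟩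
    have : z = M := hM z (by
      rw [← i.left.isEmbedding.isInducing.specializes_iff, hz]; exact ht)
    rw [← this, hz]
    exact ⟨W, t, y, ε, rfl⟩
  rintro _ ⟨x, rfl⟩
  obtain ⟨q, h1, h2, rfl⟩ := exists_maxPt_pair x
  rw [← AbRigid.left_comp_apply, IsMonHom.mul_hom, AbRigid.left_comp_apply]
  refine mul_mem_wordSet f _ ?_ ?_
  · rw [← AbRigid.left_comp_apply, tensorHom_fst, AbRigid.left_comp_apply]; exact hmax _ h1
  · rw [← AbRigid.left_comp_apply, tensorHom_snd, AbRigid.left_comp_apply]; exact hmax _ h2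

end Groth.Agent.GrpGen20
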