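import Groth.Agent.Lib.GrpGen20.WordPoints
import Groth.Agent.Lib.Constr24.Atoms
import Groth.Agent.S0591
import Mathlib.AlgebraicGeometry.Morphisms.FinitePresentation
import Mathlib.AlgebraicGeometry.Noetherian

/-!
# Bounded word length on quasi-compact groups
-/

set_option autoImplicit false
set_option backward.isDefEq.respectTransparency false
set_option backward.isDefEq.respectTransparency.types false

universe u

open CategoryTheory CategoryTheory.Limits MonoidalCategory CartesianMonoidalCategory MonObj GrpObj AlgebraicGeometry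

namespace Groth.Agent.GrpGen20

variable {S : Scheme.{u}}

/-- Tuples of morphisms factor through a universal one of finite presentation. -/
theorem exists_tuple_lfp (X : Over S) [LocallyOfFinitePresentation X.hom] {T : Over S} :
    ∀ {n : ℕ} (x : Fin n → (T ⟶ X)), ∃ (W : Over S) (y : Fin n → (W ⟶ X)) (t : T ⟶ W),
      LocallyOfFinitePresentation W.hom ∧ ∀ j, t ≫ y j = x j := by
  intro n
  induction n with
  | zero =>
    exact fun x => ⟨𝟙_ (Over S), Fin.elim0, toUnit T, inferInstanceAs (LocallyOfFinitePresentation (𝟙 S)), fun j => j.elim0⟩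
  | succ n ih =>
    intro x
    obtain ⟨W, y, t, hW, hy⟩ := ih (fun j => x j.succ)
    refine ⟨X ⊗ W, Fin.cons (fst X W) (fun j => snd X W ≫ y j), lift (x 0) t, ?_, fun j => ?_⟩
    · exact inferInstanceAs (LocallyOfFinitePresentation (Limits.pullback.fst X.hom W.hom ≫ X.hom))
    · refine Fin.cases ?_ (fun i => ?_) j
      · simp
      · simp [hy i]

variable {G X : Over S} [GrpObj G] [LocallyOfFinitePresentation X.hom] [LocallyOfFiniteType G.hom] (f : X ⟶ G)

/-- The word lengths are bounded on an affine open. -/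
theorem exists_bound_affine (U : G.left.Opens) (hU : IsAffineOpen U)
    (hsurj : ∀ h ∈ U, ∃ (n : ℕ) (T : Over S) (p : T.left) (x : Fin n → (T ⟶ X)) (ε : Fin n → Bool),
      (sval f x ε).left p = h) :
    ∃ N : ℕ, ∀ h ∈ U, ∃ (m : ℕ) (_ : m ≤ N) (T : Over S) (p : T.left) (x : Fin m → (T ⟶ X)) (ε : Fin m → Bool),
      (sval f x ε).left p = h := by
  classical
  haveI : IsAffine U.toScheme := hU
  have key : ∀ h : U.toScheme, ∃ E : Set U.toScheme, h ∈ E ∧ Topology.IsConstructible E ∧
      ∃ n : ℕ, ∀ z ∈ E, ∃ (T : Over S) (p : T.left) (x : Fin n → (T ⟶ X)) (ε : Fin n → Bool),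
        (sval f x ε).left p = U.ι z := by
    intro h
    obtain ⟨n, T, p, x, ε, hp⟩ := hsurj (U.ι h) h.2
    obtain ⟨W, y, t, hW, hy⟩ := exists_tuple_lfp X x
    haveI := hW
    let v := (sval f y ε).left
    haveI : LocallyOfFinitePresentation (v ≫ G.hom) := by rw [Over.w]; infer_instance
    haveI : LocallyOfFinitePresentation v := SchBasic.locallyOfFinitePresentation_of_comp v G.hom
    have hv : v (t.left p) = U.ι h := by
      show (sval f y ε).left _ = _
      rw [← Scheme.Hom.comp_apply, ← Over.comp_left, comp_sval, show (fun j => t ≫ y j) = x from funext hy]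
      exact hp
    obtain ⟨A, hA, hpA, hAU⟩ := exists_isAffineOpen_mem_and_subset (x := t.left p) (U := v ⁻¹ᵁ U)
      (by show v (t.left p) ∈ U; rw [hv]; exact h.2)
    haveI : IsAffine A.toScheme := hA
    have hr : Set.range (A.ι ≫ v) ⊆ Set.range U.ι := by
      rintro _ ⟨z, rfl⟩
      rw [Scheme.Opens.range_ι]
      exact hAU z.2
    let φ := IsOpenImmersion.lift U.ι (A.ι ≫ v) hr
    have hφ : φ ≫ U.ι = A.ι ≫ v := IsOpenImmersion.lift_fac _ _ _
    haveI : LocallyOfFinitePresentation (φ ≫ U.ι) := by rw [hφ]; infer_instance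
    haveI : LocallyOfFinitePresentation φ := SchBasic.locallyOfFinitePresentation_of_comp φ U.ι
    haveI : QuasiCompact φ := HasAffineProperty.iff_of_isAffine.mpr (inferInstanceAs (CompactSpace A.toScheme))
    refine ⟨φ '' Set.univ, ⟨⟨t.left p, hpA⟩, trivial, U.ι.isOpenEmbedding.injective ?_⟩,
      φ.isConstructible_image Topology.IsConstructible.univ, n, ?_⟩
    · rw [← Scheme.Hom.comp_apply, hφ]
      exact hv
    · rintro _ ⟨a, -, rfl⟩
      exact ⟨W, A.ι a, y, ε, by rw [← Scheme.Hom.comp_apply φ, hφ]; rfl⟩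
  choose E hhE hEc n hn using key
  obtain ⟨s, hs⟩ := Constr24.exists_finite_subcover E hEc
    (Set.eq_univ_of_forall fun h => Set.mem_iUnion.2 ⟨h, hhE h⟩)
  refine ⟨s.sup n, fun h hh => ?_⟩
  obtain ⟨i, hi, hiE⟩ := Set.mem_iUnion₂.1 (hs.ge (Set.mem_univ (⟨h, hh⟩ : U.toScheme)))
  obtain ⟨T, p, x, ε, hp⟩ := hn i _ hiE
  exact ⟨n i, Finset.le_sup hi, T, p, x, ε, hp⟩

/-- The word lengths are bounded on a quasi-compact group. -/
theorem exists_bound [CompactSpace G.left]
    (hsurj : ∀ h : G.left, ∃ (n : ℕ) (T : Over S) (p : T.left) (x : Fin n → (T ⟶ X)) (ε : Fin n → Bool),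
      (sval f x ε).left p = h) :
    ∃ N : ℕ, ∀ h : G.left, ∃ (m : ℕ) (_ : m ≤ N) (T : Over S) (p : T.left) (x : Fin m → (T ⟶ X)) (ε : Fin m → Bool),
      (sval f x ε).left p = h := by
  classical
  obtain ⟨s, hs⟩ := isCompact_univ.elim_finite_subcover (fun U : G.left.affineOpens => (U.1 : Set G.left))
    (fun U => U.1.2) (fun x _ => by
      obtain ⟨U, hU, hxU, -⟩ := exists_isAffineOpen_mem_and_subset (x := x) (U := ⊤) trivial
      exact Set.mem_iUnion.mpr ⟨⟨U, hU⟩, hxU⟩)
  choose N hN using fun U : G.left.affineOpens => exists_bound_affine f U.1 U.2 (fun h _ => hsurj h)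
  refine ⟨s.sup N, fun h => ?_⟩
  obtain ⟨U, hU⟩ := Set.mem_iUnion.mp (hs (Set.mem_univ h))
  obtain ⟨hUs, hU⟩ := Set.mem_iUnion.mp hU
  obtain ⟨m, hm, rest⟩ := hN U h hU
  exact ⟨m, hm.trans (Finset.le_sup hUs), rest⟩

end Groth.Agent.GrpGen20
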