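import Mathlib.AlgebraicGeometry.AlgClosed.Basic
import Mathlib.CategoryTheory.Monoidal.Cartesian.Grp
import Mathlib.Algebra.Group.Subgroup.Lattice
import Mathlib.AlgebraicGeometry.Pullbacks

/-!
# Rational points lying under words
-/

set_option autoImplicit false
set_option backward.isDefEq.respectTransparency false
set_option backward.isDefEq.respectTransparency.types false

universe u

open CategoryTheory CategoryTheory.Limits MonoidalCategory CartesianMonoidalCategory MonObj GrpObj AlgebraicGeometry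

namespace Groth.Agent.GrpGen20

/-- The value of a signed word. -/
noncomputable def sval {S : Scheme.{u}} {G X T : Over S} [GrpObj G] (f : X ⟶ G) {n : ℕ}
    (x : Fin n → (T ⟶ X)) (ε : Fin n → Bool) : T ⟶ G :=
  (List.ofFn fun j : Fin n => if ε j then x j ≫ f else (x j ≫ f)⁻¹).prod

theorem comp_sval {S : Scheme.{u}} {G X T T' : Over S} [GrpObj G] (f : X ⟶ G) (t : T' ⟶ T) {n : ℕ}
    (x : Fin n → (T ⟶ X)) (ε : Fin n → Bool) :
    t ≫ sval f x ε = sval f (fun j => t ≫ x j) ε := by
  induction n with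
  | zero => simp [sval, MonObj.comp_one]
  | succ n ih =>
    have hh := ih (fun j => x j.succ) (fun j => ε j.succ)
    simp only [sval, List.ofFn_succ, List.prod_cons, MonObj.comp_mul] at hh ⊢
    rw [hh]
    congr 1
    split_ifs <;> simp [GrpObj.comp_inv]

/-- Tuples of morphisms factor through a universal one of finite type. -/
theorem exists_tuple {S : Scheme.{u}} (X : Over S) [LocallyOfFiniteType X.hom] {T : Over S} :
    ∀ {n : ℕ} (x : Fin n → (T ⟶ X)), ∃ (W : Over S) (y : Fin n → (W ⟶ X)) (t : T ⟶ W),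
      LocallyOfFiniteType W.hom ∧ ∀ j, t ≫ y j = x j := by
  intro n
  induction n with
  | zero =>
    exact fun x => ⟨𝟙_ (Over S), Fin.elim0, toUnit T, inferInstanceAs (LocallyOfFiniteType (𝟙 S)), fun j => j.elim0⟩
  | succ n ih =>
    intro x
    obtain ⟨W, y, t, hW, hy⟩ := ih (fun j => x j.succ)
    refine ⟨X ⊗ W, Fin.cons (fst X W) (fun j => snd X W ≫ y j), lift (x 0) t, ?_, fun j => ?_⟩
    · exact inferInstanceAs (LocallyOfFiniteType (Limits.pullback.fst X.hom W.hom ≫ X.hom))
    · refine Fin.cases ?_ (fun i => ?_) j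
      · simp
      · simp [hy i]

variable {k : Type u} [Field k] [IsAlgClosed k] {G X : Over (Spec (CommRingCat.of k))} [GrpObj G]
  [LocallyOfFiniteType G.hom] [LocallyOfFiniteType X.hom] (f : X ⟶ G)

/-- A rational point under a word is the value of a word in rational points. -/
theorem exists_rational_word {n : ℕ} {T : Over (Spec (CommRingCat.of k))} (p : T.left) (x : Fin n → (T ⟶ X))
    (ε : Fin n → Bool) (g : 𝟙_ (Over (Spec (CommRingCat.of k))) ⟶ G)
    (p₀ : (𝟙_ (Over (Spec (CommRingCat.of k)))).left) (h : (sval f x ε).left p = g.left p₀) :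
    ∃ a : Fin n → (𝟙_ (Over (Spec (CommRingCat.of k))) ⟶ X), sval f a ε = g := by
  obtain ⟨W, y, t, hW, hy⟩ := exists_tuple X x
  haveI := hW
  haveI : JacobsonSpace W.left := LocallyOfFiniteType.jacobsonSpace W.hom
  obtain rfl : p₀ = IsLocalRing.closedPoint k := Subsingleton.elim (α := Spec (CommRingCat.of k)) _ _
  have hc : IsClosed ({g.left (IsLocalRing.closedPoint k)} : Set G.left) := by
    exact ((pointEquivClosedPoint G.hom) ⟨g.left, Over.w g⟩).2
  have hw : (sval f y ε).left (t.left p) = g.left (IsLocalRing.closedPoint k) := by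
    rw [← Scheme.Hom.comp_apply, ← Over.comp_left, comp_sval, show (fun j => t ≫ y j) = x from funext hy]
    exact h
  obtain ⟨w, hw₁, hw₂⟩ := nonempty_inter_closedPoints
    (Z := (sval f y ε).left ⁻¹' {g.left (IsLocalRing.closedPoint k)}) ⟨_, hw⟩
    (hc.preimage (sval f y ε).left.continuous).isLocallyClosed
  let a : 𝟙_ (Over (Spec (CommRingCat.of k))) ⟶ W :=
    Over.homMk (pointOfClosedPoint W.hom w hw₂) (pointOfClosedPoint_comp W.hom w hw₂)
  refine ⟨fun j => a ≫ y j, ?_⟩
  rw [← comp_sval]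
  refine Over.OverMorphism.ext (ext_of_apply_closedPoint_eq G.hom (Over.w _) (Over.w g) ?_)
  rw [Over.comp_left, Scheme.Hom.comp_apply]
  exact (congrArg (sval f y ε).left (pointOfClosedPoint_apply W.hom w hw₂ _)).trans hw₁

/-- Rational points under words form the subgroup generated by rational points of the image. -/
theorem rational_words_eq_closure :
    {g : 𝟙_ (Over (Spec (CommRingCat.of k))) ⟶ G | ∃ (n : ℕ) (T : Over (Spec (CommRingCat.of k))) (p : T.left) (p₀ : (𝟙_ (Over (Spec (CommRingCat.of k)))).left)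
        (x : Fin n → (T ⟶ X)) (ε : Fin n → Bool), ((List.ofFn fun j : Fin n => if ε j then x j ≫ f else (x j ≫ f)⁻¹).prod : T ⟶ G).left.base p = g.left.base p₀} =
      ((Subgroup.closure {g : 𝟙_ (Over (Spec (CommRingCat.of k))) ⟶ G | ∃ p₀ : (𝟙_ (Over (Spec (CommRingCat.of k)))).left, g.left.base p₀ ∈ Set.range f.left.base} :
        Subgroup (𝟙_ (Over (Spec (CommRingCat.of k))) ⟶ G)) : Set (𝟙_ (Over (Spec (CommRingCat.of k))) ⟶ G)) := by
  ext g
  constructor
  · rintro ⟨n, T, p, p₀, x, ε, h⟩
    obtain ⟨a, rfl⟩ := exists_rational_word f p x ε g p₀ h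
    refine Subgroup.list_prod_mem _ fun z hz => ?_
    obtain ⟨j, rfl⟩ := List.mem_ofFn.1 hz
    have hm : a j ≫ f ∈ Subgroup.closure {g : 𝟙_ (Over (Spec (CommRingCat.of k))) ⟶ G | ∃ p₀ : (𝟙_ (Over (Spec (CommRingCat.of k)))).left, g.left.base p₀ ∈ Set.range f.left.base} :=
      Subgroup.subset_closure ⟨IsLocalRing.closedPoint k, (a j).left (IsLocalRing.closedPoint k), rfl⟩
    split_ifs
    · exact hm
    · exact inv_mem hm
  · intro hg
    let val : (𝟙_ (Over (Spec (CommRingCat.of k))) ⟶ X) × Bool → (𝟙_ (Over (Spec (CommRingCat.of k))) ⟶ G) :=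
      fun q => if q.2 then q.1 ≫ f else (q.1 ≫ f)⁻¹
    suffices ∃ l : List ((𝟙_ (Over (Spec (CommRingCat.of k))) ⟶ X) × Bool), (l.map val).prod = g by
      obtain ⟨l, rfl⟩ := this
      refine ⟨l.length, _, IsLocalRing.closedPoint k, IsLocalRing.closedPoint k,
        fun j => (l.get j).1, fun j => (l.get j).2, ?_⟩
      congr 3
      rw [← List.ofFn_get l, List.map_ofFn]
      simp [Function.comp_def, val]
    induction hg using Subgroup.closure_induction with
    | mem z hz =>
      obtain ⟨p₀, x₀, hx₀⟩ := hz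
      obtain ⟨a, ha⟩ := exists_rational_word f (n := 1) x₀ (fun _ => 𝟙 X) (fun _ => true) z p₀
        (by simpa [sval] using hx₀)
      exact ⟨[(a 0, true)], by simpa [sval, val] using ha⟩
    | one => exact ⟨[], rfl⟩
    | mul a b _ _ ha hb =>
      obtain ⟨l, rfl⟩ := ha
      obtain ⟨l', rfl⟩ := hb
      exact ⟨l ++ l', by simp⟩
    | inv a _ ha =>
      obtain ⟨l, rfl⟩ := ha
      refine ⟨(l.map fun q => (q.1, !q.2)).reverse, ?_⟩
      rw [List.prod_inv_reverse, List.map_reverse, List.map_map, List.map_map]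
      congr 2
      refine List.map_congr_left fun q _ => ?_
      rcases q with ⟨q, b⟩
      cases b <;> simp [val]

end Groth.Agent.GrpGen20
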