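import Groth.Agent.Lib.GrpGen20.WordPoints
import Groth.Agent.Lib.GrpGen20.Generated

/-!
# The sets of points lying under words of given length
-/

set_option autoImplicit false
set_option backward.isDefEq.respectTransparency false
set_option backward.isDefEq.respectTransparency.types false

universe u

open CategoryTheory CategoryTheory.Limits MonoidalCategory CartesianMonoidalCategory MonObj GrpObj AlgebraicGeometry

namespace Groth.Agent.GrpGen20

variable {k : Type u} [Field k] {G X : Over (Spec (CommRingCat.of k))} [GrpObj G] (f : X ⟶ G)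

/-- The points lying under words of length `n`. -/
def wordSet (n : ℕ) : Set G.left :=
  {g | ∃ (T : Over (Spec (CommRingCat.of k))) (p : T.left) (x : Fin n → (T ⟶ X)) (ε : Fin n → Bool),
    (sval f x ε).left p = g}

theorem sval_append {T : Over (Spec (CommRingCat.of k))} {m n : ℕ} (x : Fin m → (T ⟶ X)) (ε : Fin m → Bool)
    (x' : Fin n → (T ⟶ X)) (ε' : Fin n → Bool) :
    sval f (Fin.append x x') (Fin.append ε ε') = sval f x ε * sval f x' ε' := by
  unfold sval
  rw [← List.prod_append, ← List.ofFn_fin_append]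
  congr 2
  funext j
  refine Fin.addCases (fun i => ?_) (fun i => ?_) j <;> simp

theorem exists_sval_inv {T : Over (Spec (CommRingCat.of k))} : ∀ {n : ℕ} (x : Fin n → (T ⟶ X)) (ε : Fin n → Bool),
    ∃ (x' : Fin n → (T ⟶ X)) (ε' : Fin n → Bool), sval f x' ε' = (sval f x ε)⁻¹ := by
  intro n
  induction n with
  | zero => exact fun x ε => ⟨x, ε, by simp [sval]⟩
  | succ n ih =>
    intro x ε
    obtain ⟨y, η', h⟩ := ih (fun j => x j.succ) (fun j => ε j.succ)
    refine ⟨Fin.append y (fun _ : Fin 1 => x 0), Fin.append η' (fun _ : Fin 1 => !(ε 0)), ?_⟩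
    rw [sval_append, h]
    cases hε : ε 0 <;> simp [sval, List.ofFn_succ, hε]

theorem mul_mem_wordSet {m n : ℕ} (q : (G ⊗ G).left) (h₁ : (fst G G).left q ∈ wordSet f m)
    (h₂ : (snd G G).left q ∈ wordSet f n) : μ[G].left q ∈ wordSet f (m + n) := by
  obtain ⟨T, p, x, ε, h⟩ := h₁
  obtain ⟨T', p', x', ε', h'⟩ := h₂
  have hq : q ∈ Set.range (sval f x ε ⊗ₘ sval f x' ε').left := by
    rw [Over.tensorHom_left]
    erw [Scheme.Pullback.range_map]
    exact ⟨⟨p, h⟩, ⟨p', h'⟩⟩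
  obtain ⟨w, rfl⟩ := hq
  refine ⟨T ⊗ T', w, Fin.append (fun j => fst T T' ≫ x j) (fun j => snd T T' ≫ x' j), Fin.append ε ε', ?_⟩
  rw [sval_append, ← comp_sval, ← comp_sval, Hom.mul_def, lift_fst_comp_snd_comp, AbRigid.left_comp_apply]

theorem inv_mem_wordSet {n : ℕ} {g : G.left} (h : g ∈ wordSet f n) : ι[G].left g ∈ wordSet f n := by
  obtain ⟨T, p, x, ε, rfl⟩ := h
  obtain ⟨x', ε', h'⟩ := exists_sval_inv f x ε
  exact ⟨T, p, x', ε', by rw [h', Hom.inv_def, AbRigid.left_comp_apply]⟩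

theorem one_mem_wordSet : η[G].left (IsLocalRing.closedPoint k) ∈ wordSet f 0 :=
  ⟨𝟙_ _, IsLocalRing.closedPoint k, Fin.elim0, Fin.elim0, by
    rw [show sval f (T := 𝟙_ (Over (Spec (CommRingCat.of k)))) (Fin.elim0 : Fin 0 → _) Fin.elim0 = η[G] by
      simp [sval, Hom.one_def, toUnit_unique (toUnit (𝟙_ (Over (Spec (CommRingCat.of k))))) (𝟙 _)]]⟩

theorem range_subset_wordSet : Set.range f.left ⊆ wordSet f 1 := by
  rintro _ ⟨p, rfl⟩
  exact ⟨X, p, fun _ => 𝟙 X, fun _ => true, by simp [sval]⟩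

theorem genSet_subset_iUnion : genSet f ⊆ ⋃ n, wordSet f n := by
  rintro z ⟨T, g, hg, t, rfl⟩
  induction hg with
  | base => exact Set.mem_iUnion.2 ⟨1, range_subset_wordSet f ⟨t, rfl⟩⟩
  | one =>
    refine Set.mem_iUnion.2 ⟨0, ?_⟩
    rw [Subsingleton.elim (α := Spec (CommRingCat.of k)) t (IsLocalRing.closedPoint k)]
    exact one_mem_wordSet f
  | @inv T g _ ih =>
    obtain ⟨n, hn⟩ := Set.mem_iUnion.1 (ih t)
    exact Set.mem_iUnion.2 ⟨n, by rw [Hom.inv_def, AbRigid.left_comp_apply]; exact inv_mem_wordSet f hn⟩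
  | @mul T T' g g' _ _ ih ih' =>
    obtain ⟨m, hm⟩ := Set.mem_iUnion.1 (ih ((fst T T').left t))
    obtain ⟨n, hn⟩ := Set.mem_iUnion.1 (ih' ((snd T T').left t))
    refine Set.mem_iUnion.2 ⟨m + n, ?_⟩
    rw [Hom.mul_def, AbRigid.left_comp_apply]
    refine mul_mem_wordSet f _ ?_ ?_
    · rw [← AbRigid.left_comp_apply, lift_fst, AbRigid.left_comp_apply]; exact hm
    · rw [← AbRigid.left_comp_apply, lift_snd, AbRigid.left_comp_apply]; exact hn

theorem wordSet_subset_range {Γ : Over (Spec (CommRingCat.of k))} [GrpObj Γ] (i : Γ ⟶ G) [IsMonHom i]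
    (hf : ∃ f' : X ⟶ Γ, f' ≫ i = f) (n : ℕ) : wordSet f n ⊆ Set.range i.left := by
  obtain ⟨f', rfl⟩ := hf
  rintro _ ⟨T, p, x, ε, rfl⟩
  have key : sval (f' ≫ i) x ε = sval f' x ε ≫ i := by
    clear p
    induction n with
    | zero => simp [sval, MonObj.one_comp]
    | succ n ih =>
      have hh := ih (fun j => x j.succ) (fun j => ε j.succ)
      simp only [sval, List.ofFn_succ, List.prod_cons, MonObj.mul_comp] at hh ⊢
      rw [hh]
      congr 1
      split_ifs <;> simp [GrpObj.inv_comp]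
  exact ⟨(sval f' x ε).left p, by rw [key, AbRigid.left_comp_apply]⟩

theorem mul_mem_closure {A B C : Set G.left}
    (h : ∀ q : (G ⊗ G).left, (fst G G).left q ∈ A → (snd G G).left q ∈ B → μ[G].left q ∈ C)
    (q : (G ⊗ G).left) (h1 : (fst G G).left q ∈ closure A) (h2 : (snd G G).left q ∈ closure B) :
    μ[G].left q ∈ closure C := by
  rw [mem_closure_iff]
  intro O hO hq
  have hW : IsOpen ((fst G G).left '' (μ[G].left ⁻¹' O ∩ (snd G G).left ⁻¹' {(snd G G).left q})) :=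
    AbRigid.isOpen_image_fst_fibre G G _ (hO.preimage μ[G].left.continuous) _
  obtain ⟨a, ⟨q', ⟨hq'O, hq'2⟩, rfl⟩, ha⟩ := mem_closure_iff.1 h1 _ hW ⟨q, ⟨hq, rfl⟩, rfl⟩
  have hW' : IsOpen ((snd G G).left '' (μ[G].left ⁻¹' O ∩ (fst G G).left ⁻¹' {(fst G G).left q'})) :=
    AbRigid.isOpen_image_snd_fibre G G _ (hO.preimage μ[G].left.continuous) _
  obtain ⟨b, ⟨q'', ⟨hq''O, hq''1⟩, rfl⟩, hb⟩ :=
    mem_closure_iff.1 h2 _ hW' ⟨q', ⟨hq'O, rfl⟩, hq'2⟩
  exact ⟨_, hq''O, h q'' ((hq''1 : (fst G G).left q'' = _) ▸ ha) hb⟩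

end Groth.Agent.GrpGen20
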