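import Groth.Agent.Lib.GrpGen20.GeomRed
import Groth.Agent.Lib.WeilH13.Count
import Groth.Agent.Lib.AbRigid.Maximal
import Groth.Agent.Lib.AbRigid.SmoothGI
import Mathlib.GroupTheory.Solvable
import Mathlib.GroupTheory.Nilpotent
import Mathlib.FieldTheory.IsAlgClosed.Basic

/-!
# Derived and lower central series of groups of points, via commutator words
-/

set_option autoImplicit false

universe u

open CategoryTheory CategoryTheory.Limits MonoidalCategory CartesianMonoidalCategory MonObj GrpObj AlgebraicGeometry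

open scoped commutatorElement

namespace Groth.Agent.GrpGen20

/-- Commutators of conjugation-invariant generating sets. -/
theorem commutator_closure {A : Type*} [Group A] {s t : Set A}
    (hs : ∀ g : A, ∀ x ∈ s, g * x * g⁻¹ ∈ s) (ht : ∀ g : A, ∀ x ∈ t, g * x * g⁻¹ ∈ t) :
    ⁅Subgroup.closure s, Subgroup.closure t⁆ =
      Subgroup.closure {z | ∃ a ∈ s, ∃ b ∈ t, ⁅a, b⁆ = z} := by
  set N := Subgroup.closure {z | ∃ a ∈ s, ∃ b ∈ t, ⁅a, b⁆ = z}
  haveI hN : N.Normal := ⟨fun x hx g => by
    induction hx using Subgroup.closure_induction with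
    | mem z hz =>
      obtain ⟨a, ha, b, hb, rfl⟩ := hz
      refine Subgroup.subset_closure ⟨g * a * g⁻¹, hs g a ha, g * b * g⁻¹, ht g b hb, ?_⟩
      simp only [commutatorElement_def]
      group
    | one => simp
    | mul x y _ _ hx hy => rw [show g * (x * y) * g⁻¹ = (g * x * g⁻¹) * (g * y * g⁻¹) by group]; exact mul_mem hx hy
    | inv x _ hx => rw [show g * x⁻¹ * g⁻¹ = (g * x * g⁻¹)⁻¹ by group]; exact inv_mem hx⟩
  refine le_antisymm (Subgroup.commutator_le.2 fun a ha b hb => ?_) (Subgroup.closure_le _ |>.2 ?_)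
  · have key : ∀ x ∈ Subgroup.closure s, ∀ y ∈ Subgroup.closure t,
        Commute (QuotientGroup.mk' N x) (QuotientGroup.mk' N y) := by
      intro x hx y hy
      induction hx using Subgroup.closure_induction with
      | mem x hx =>
        induction hy using Subgroup.closure_induction with
        | mem y hy =>
          rw [← commutatorElement_eq_one_iff_commute, ← map_commutatorElement]
          exact (QuotientGroup.eq_one_iff _).2 (Subgroup.subset_closure ⟨x, hx, y, hy, rfl⟩)
        | one => rw [map_one]; exact Commute.one_right _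
        | mul y z _ _ h1 h2 => rw [map_mul]; exact h1.mul_right h2
        | inv y _ h => rw [map_inv]; exact h.inv_right
      | one => rw [map_one]; exact Commute.one_left _
      | mul x z _ _ h1 h2 => rw [map_mul]; exact h1.mul_left h2
      | inv x _ h => rw [map_inv]; exact h.inv_left
    have h := commutatorElement_eq_one_iff_commute.2 (key a ha b hb)
    rw [← map_commutatorElement] at h
    exact (QuotientGroup.eq_one_iff _).1 h
  · rintro _ ⟨a, ha, b, hb, rfl⟩
    exact Subgroup.commutator_mem_commutator (Subgroup.subset_closure ha) (Subgroup.subset_closure hb)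

variable {k : Type u} [Field k] {G : Over (Spec (CommRingCat.of k))} [GrpObj G]

/-- The commutator of two universal elements. -/
noncomputable def commWord {W W' : Over (Spec (CommRingCat.of k))} (w : W ⟶ G) (w' : W' ⟶ G) : W ⊗ W' ⟶ G :=
  (fst W W' ≫ w) * (snd W W' ≫ w') * (fst W W' ≫ w)⁻¹ * (snd W W' ≫ w')⁻¹

theorem comp_commWord {W W' T : Over (Spec (CommRingCat.of k))} (w : W ⟶ G) (w' : W' ⟶ G) (x : T ⟶ W ⊗ W') :
    x ≫ commWord w w' = ⁅(x ≫ fst W W') ≫ w, (x ≫ snd W W') ≫ w'⁆ := by
  simp [commWord, commutatorElement_def, MonObj.comp_mul, GrpObj.comp_inv]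

/-- `w` gives a conjugation-invariant set of generators of `D T` for all `T`. -/
def Generates {W : Over (Spec (CommRingCat.of k))} (w : W ⟶ G)
    (D : ∀ T : Over (Spec (CommRingCat.of k)), Subgroup (T ⟶ G)) : Prop :=
  ∀ T : Over (Spec (CommRingCat.of k)), D T = Subgroup.closure (Set.range fun x : T ⟶ W => x ≫ w) ∧
    ∀ (g : T ⟶ G) (x : T ⟶ W), ∃ x' : T ⟶ W, g * (x ≫ w) * g⁻¹ = x' ≫ w

theorem Generates.comm {W W' : Over (Spec (CommRingCat.of k))} {w : W ⟶ G} {w' : W' ⟶ G}
    {D D' : ∀ T : Over (Spec (CommRingCat.of k)), Subgroup (T ⟶ G)} (h : Generates w D) (h' : Generates w' D') :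
    Generates (commWord w w') (fun T => ⁅D T, D' T⁆) := by
  intro T
  refine ⟨?_, fun g x => ?_⟩
  · show ⁅D T, D' T⁆ = _
    rw [(h T).1, (h' T).1, commutator_closure (by rintro g _ ⟨x, rfl⟩; obtain ⟨x', hx'⟩ := (h T).2 g x; exact ⟨x', hx'.symm⟩)
      (by rintro g _ ⟨x, rfl⟩; obtain ⟨x', hx'⟩ := (h' T).2 g x; exact ⟨x', hx'.symm⟩)]
    congr 1
    ext z
    constructor
    · rintro ⟨_, ⟨a, rfl⟩, _, ⟨b, rfl⟩, rfl⟩
      exact ⟨lift a b, by simp [comp_commWord]⟩
    · rintro ⟨x, rfl⟩
      exact ⟨_, ⟨x ≫ fst _ _, rfl⟩, _, ⟨x ≫ snd _ _, rfl⟩, (comp_commWord w w' x).symm⟩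
  · obtain ⟨a, ha⟩ := (h T).2 g (x ≫ fst _ _)
    obtain ⟨b, hb⟩ := (h' T).2 g (x ≫ snd _ _)
    refine ⟨lift a b, ?_⟩
    rw [comp_commWord, comp_commWord, lift_fst, lift_snd, ← ha, ← hb]
    simp only [commutatorElement_def]
    group

theorem generates_top : Generates (𝟙 G) (fun _ => ⊤) := by
  intro T
  refine ⟨?_, fun g x => ?_⟩
  · show (⊤ : Subgroup (T ⟶ G)) = _
    rw [show (Set.range fun x : T ⟶ G => x ≫ 𝟙 G) = Set.univ from Set.eq_univ_of_forall fun x => ⟨x, Category.comp_id x⟩, Subgroup.closure_univ]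
  exact ⟨g * x * g⁻¹, by simp⟩

theorem exists_derived [Smooth G.hom] (n : ℕ) :
    ∃ (W : Over (Spec (CommRingCat.of k))) (w : W ⟶ G), Smooth W.hom ∧
      Generates w (fun T => derivedSeries (T ⟶ G) n) := by
  induction n with
  | zero => exact ⟨G, 𝟙 G, inferInstance, generates_top⟩
  | succ n ih =>
    obtain ⟨W, w, hW, hw⟩ := ih
    haveI := hW
    exact ⟨W ⊗ W, commWord w w, inferInstanceAs (Smooth (Limits.pullback.fst W.hom W.hom ≫ W.hom)), hw.comm hw⟩

theorem exists_lcs [Smooth G.hom] (n : ℕ) :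
    ∃ (W : Over (Spec (CommRingCat.of k))) (w : W ⟶ G), Smooth W.hom ∧
      Generates w (fun T => Subgroup.lowerCentralSeries (⊤ : Subgroup (T ⟶ G)) n) := by
  induction n with
  | zero => exact ⟨G, 𝟙 G, inferInstance, generates_top⟩
  | succ n ih =>
    obtain ⟨W, w, hW, hw⟩ := ih
    haveI := hW
    exact ⟨W ⊗ G, commWord w (𝟙 G), inferInstanceAs (Smooth (Limits.pullback.fst W.hom G.hom ≫ W.hom)), hw.comm generates_top⟩

theorem eq_one_of_geometric_points {W : Over (Spec (CommRingCat.of k))} [IsReduced W.left]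
    [LocallyOfFiniteType W.hom] (w : W ⟶ G) (Ω : Type u) [Field Ω] [Algebra k Ω] [IsAlgClosed Ω]
    (h : ∀ x : (Over.mk (Spec.map (CommRingCat.ofHom (algebraMap k Ω))) : Over (Spec (CommRingCat.of k))) ⟶ W,
      x ≫ w = 1) : w = 1 := by
  haveI : IsSeparated G.hom := AbRigid.isSeparated_of_grpObj G
  haveI : JacobsonSpace W.left := LocallyOfFiniteType.jacobsonSpace W.hom
  let u : W ⟶ G := 1
  let E := Limits.pullback (lift w u) (lift (𝟙 G) (𝟙 G))
  let j : E ⟶ W := Limits.pullback.fst (lift w u) (lift (𝟙 G) (𝟙 G))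
  have hj : j ≫ w = j ≫ u := by
    have hc := Limits.pullback.condition (f := lift w u) (g := lift (𝟙 G) (𝟙 G))
    have h1 := congrArg (· ≫ fst G G) hc
    have h2 := congrArg (· ≫ snd G G) hc
    simp only [Category.assoc, lift_fst, lift_snd, Category.comp_id] at h1 h2
    exact h1.trans h2.symm
  haveI : IsClosedImmersion j.left := by
    have hdiag : (lift (𝟙 G) (𝟙 G)).left = Limits.pullback.diagonal G.hom := by
      apply Limits.pullback.hom_ext
      · rw [Limits.pullback.diagonal_fst]; exact congrArg CommaMorphism.left (lift_fst (𝟙 G) (𝟙 G))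
      · rw [Limits.pullback.diagonal_snd]; exact congrArg CommaMorphism.left (lift_snd (𝟙 G) (𝟙 G))
    refine MorphismProperty.of_isPullback (P := @IsClosedImmersion)
      ((IsPullback.of_hasPullback (lift w u) (lift (𝟙 G) (𝟙 G))).map (Over.forget _)).flip ?_
    show IsClosedImmersion (lift (𝟙 G) (𝟙 G)).left
    rw [hdiag]
    infer_instance
  have hsurj : Set.range j.left = Set.univ := by
    refine top_le_iff.1 ?_
    show (Set.univ : Set W.left) ⊆ _
    rw [← closure_closedPoints]
    refine closure_minimal (fun z hz => ?_) j.left.isClosedEmbedding.isClosed_range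
    letI := Groth.Agent.VarDim.resAlg W.hom z
    haveI := WeilH13.finite_residueField_of_isClosed W.hom z hz
    let φ : W.left.residueField z →ₐ[k] Ω := IsAlgClosed.lift
    let x : (Over.mk (Spec.map (CommRingCat.ofHom (algebraMap k Ω))) : Over (Spec (CommRingCat.of k))) ⟶ W :=
      Over.homMk (Spec.map (CommRingCat.ofHom φ.toRingHom) ≫ W.left.fromSpecResidueField z) (by
        rw [Category.assoc, WeilH13.fromSpecResidueField_comp, ← Spec.map_comp]
        congr 1
        ext c
        exact φ.commutes c)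
    obtain ⟨y, hy⟩ : ∃ y, y ≫ j = x :=
      ⟨Limits.pullback.lift x (x ≫ w) (by
        rw [comp_lift, comp_lift, Category.comp_id, h x, MonObj.comp_one]), Limits.pullback.lift_fst _ _ _⟩
    refine ⟨y.left (IsLocalRing.closedPoint Ω), ?_⟩
    rw [← Scheme.Hom.comp_apply, ← Over.comp_left, hy]
    exact Scheme.fromSpecResidueField_apply z _
  haveI : IsDominant j.left := ⟨by rw [DenseRange, hsurj]; exact dense_univ⟩
  exact Over.OverMorphism.ext (ext_of_isDominant_of_isSeparated G.hom ((Over.w w).trans (Over.w u).symm) j.left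
    (congrArg CommaMorphism.left hj))

theorem series_iff [Smooth G.hom] (Ω : Type u) [Field Ω] [Algebra k Ω] [IsAlgClosed Ω]
    {D : ∀ T : Over (Spec (CommRingCat.of k)), Subgroup (T ⟶ G)}
    (hD : ∃ (W : Over (Spec (CommRingCat.of k))) (w : W ⟶ G), Smooth W.hom ∧ Generates w D) :
    (∀ T, D T = ⊥) ↔ D (Over.mk (Spec.map (CommRingCat.ofHom (algebraMap k Ω)))) = ⊥ := by
  refine ⟨fun h => h _, fun h T => ?_⟩
  obtain ⟨W, w, hW, hw⟩ := hD
  haveI := hW
  haveI := AbRigid.isReduced_of_smooth_over_field W.hom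
  rw [(hw _).1, Subgroup.closure_eq_bot_iff] at h
  have hw1 : w = 1 := eq_one_of_geometric_points w Ω fun x => h ⟨x, rfl⟩
  rw [(hw T).1, Subgroup.closure_eq_bot_iff]
  rintro _ ⟨x, rfl⟩
  show x ≫ w ∈ ({1} : Set (T ⟶ G))
  rw [hw1, MonObj.comp_one]
  rfl

end Groth.Agent.GrpGen20
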